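import Groth.Agent.LocSym.K717.Approx

/-!
# Moduli and local symbols: first properties
-/

set_option autoImplicit false
set_option linter.unusedSectionVars false
set_option linter.style.haveILetI false
universe u v

open CategoryTheory AlgebraicGeometry WithZero

noncomputable section

namespace K717.Sym

open K717.Crv K717.Basic K717.Approx LocSym

variable {k : Type u} [Field k] [IsAlgClosed k] {X : Scheme.{u}} [IsIntegral X]
  {c : X ⟶ Spec (CommRingCat.of k)} [IsProper c] [Smooth c] (hdim : topologicalKrullDim X = 1)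

/-- The units congruent to `1` to the order `n` at `x` (all local units if `n = 0`). -/
def U (x : Pt c) (n : ℕ) : Subgroup (X.functionField)ˣ where
  carrier := {u | val c hdim x u = 1 ∧ val c hdim x (1 - u) ≤ exp (-(n : ℤ))}
  one_mem' := by simp
  mul_mem' := by
    rintro a b ⟨ha, ha'⟩ ⟨hb, hb'⟩
    refine ⟨by rw [Units.val_mul, map_mul, ha, hb, one_mul], ?_⟩
    have e : (1 : X.functionField) - ((a * b : (X.functionField)ˣ) : X.functionField) =
        (1 - a) + a * (1 - b) := by
      rw [Units.val_mul]; ring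
    rw [e]
    refine Valuation.map_add_le _ ha' ?_
    rw [map_mul, ha, one_mul]
    exact hb'
  inv_mem' := by
    rintro a ⟨ha, ha'⟩
    refine ⟨by rw [Units.val_inv_eq_inv_val, map_inv₀, ha, inv_one], ?_⟩
    have e : (1 : X.functionField) - ((a⁻¹ : (X.functionField)ˣ) : X.functionField) =
        -((a : X.functionField)⁻¹ * (1 - a)) := by
      rw [Units.val_inv_eq_inv_val, mul_sub, inv_mul_cancel₀ a.ne_zero]; ring
    rw [e, Valuation.map_neg, map_mul, map_inv₀, ha, inv_one, one_mul]
    exact ha'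

theorem mem_U {x : Pt c} {n : ℕ} {u : (X.functionField)ˣ} :
    u ∈ U hdim x n ↔ val c hdim x u = 1 ∧ val c hdim x (1 - u) ≤ exp (-(n : ℤ)) := Iff.rfl

theorem mem_U_of_pos {x : Pt c} {n : ℕ} (hn : 0 < n) {u : (X.functionField)ˣ} :
    u ∈ U hdim x n ↔ val c hdim x (1 - u) ≤ exp (-(n : ℤ)) := by
  rw [mem_U]
  refine ⟨fun h => h.2, fun h => ⟨?_, h⟩⟩
  have h1 : val c hdim x (1 - u) < 1 := by
    refine h.trans_lt ?_
    rw [← exp_zero, exp_lt_exp]
    omega
  have h2 : val c hdim x (u : X.functionField) = val c hdim x (1 - (1 - u)) := by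
    congr 1; ring
  rw [h2, Valuation.map_one_sub_of_lt _ h1]

theorem mem_U_iff_cong1At {m : Pt c →₀ ℕ} {x : Pt c} (hx : x ∈ m.support)
    (u : (X.functionField)ˣ) : u ∈ U hdim x (m x) ↔ Cong1At m x (u : X.functionField) := by
  rw [mem_U_of_pos hdim (Nat.pos_of_ne_zero (Finsupp.mem_support_iff.1 hx)), cong1At_iff hdim]

theorem U_anti {x : Pt c} {n n' : ℕ} (h : n ≤ n') : U hdim x n' ≤ U hdim x n := by
  intro u hu
  refine ⟨hu.1, hu.2.trans ?_⟩
  rw [exp_le_exp]
  omega

theorem ord_eq_zero_of_mem_U {x : Pt c} {n : ℕ} {u : (X.functionField)ˣ} (hu : u ∈ U hdim x n) :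
    x.ord (u : X.functionField) = 0 :=
  (val_eq_one_iff hdim x u.ne_zero).1 hu.1

theorem mem_U_zero_iff {x : Pt c} {u : (X.functionField)ˣ} :
    u ∈ U hdim x 0 ↔ x.ord (u : X.functionField) = 0 := by
  refine ⟨ord_eq_zero_of_mem_U hdim, fun h => ?_⟩
  have h1 := (val_eq_one_iff hdim x u.ne_zero).2 h
  refine ⟨h1, ?_⟩
  rw [Nat.cast_zero, neg_zero, exp_zero]
  exact Valuation.map_sub_le _ (by rw [map_one]) h1.le

/-- Weak approximation for units. -/
theorem exists_unit_approx (T : Finset (Pt c)) (n : Pt c → ℕ) (g : Pt c → (X.functionField)ˣ) :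
    ∃ h : (X.functionField)ˣ, ∀ x ∈ T, h * (g x)⁻¹ ∈ U hdim x (n x) := by
  classical
  by_cases hTe : T = ∅
  · exact ⟨1, by simp [hTe]⟩
  obtain ⟨x₀, hx₀⟩ := Finset.nonempty_iff_ne_empty.2 hTe
  let N : ℕ := ∑ x ∈ T, (n x + 1 + (x.ord (g x : X.functionField)).natAbs)
  have hN : ∀ x ∈ T, n x + 1 + (x.ord (g x : X.functionField)).natAbs ≤ N := fun x hx =>
    Finset.single_le_sum (f := fun x : Pt c => n x + 1 + (x.ord (g x : X.functionField)).natAbs)
      (fun _ _ => Nat.zero_le _) hx
  obtain ⟨f, hf⟩ := exists_approx hdim T N (fun x => (g x : X.functionField))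
  have key : ∀ x ∈ T, val c hdim x (1 - f * (g x : X.functionField)⁻¹) ≤ exp (-((n x + 1 : ℕ) : ℤ)) := by
    intro x hx
    have e : 1 - f * (g x : X.functionField)⁻¹ = -((f - g x) * (g x : X.functionField)⁻¹) := by
      rw [sub_mul, mul_inv_cancel₀ (g x).ne_zero]; ring
    rw [e, Valuation.map_neg, map_mul, map_inv₀, val_eq_exp hdim x (g x).ne_zero]
    calc val c hdim x (f - g x) * (exp (-x.ord (g x : X.functionField)))⁻¹
        ≤ exp (-(N : ℤ)) * (exp (-x.ord (g x : X.functionField)))⁻¹ := by
          gcongr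
          exact hf x hx
      _ = exp (-(N : ℤ) + x.ord (g x : X.functionField)) := by
          rw [← exp_neg, ← exp_add, neg_neg]
      _ ≤ exp (-((n x + 1 : ℕ) : ℤ)) := by
          rw [exp_le_exp]
          have := hN x hx
          omega
  have hf0 : f ≠ 0 := by
    rintro rfl
    have := key x₀ hx₀
    rw [zero_mul, sub_zero, map_one, ← exp_zero, exp_le_exp] at this
    omega
  refine ⟨Units.mk0 f hf0, fun x hx => U_anti hdim (Nat.le_succ (n x)) ?_⟩
  rw [mem_U_of_pos hdim (Nat.succ_pos _)]
  rw [Units.val_mul, Units.val_mk0, Units.val_inv_eq_inv_val]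
  exact key x hx

variable {G : Type v} [CommGroup G]

include hdim in
theorem finite_mulSupport (m : Pt c →₀ ℕ) (f : Pt c → G) (g : X.functionField) :
    (Function.mulSupport fun x : Pt c =>
      open Classical in if x ∈ m.support then (1 : G) else f x ^ x.ord g).Finite := by
  refine (finite_ord_ne_zero hdim g).subset ?_
  intro x hx h0
  apply hx
  dsimp only
  split_ifs
  · rfl
  · rw [h0, zpow_zero]

include hdim in
theorem evalDiv_mul (m : Pt c →₀ ℕ) (f : Pt c → G) {g h : X.functionField} (hg : g ≠ 0) (hh : h ≠ 0) :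
    evalDiv m f (g * h) = evalDiv m f g * evalDiv m f h := by
  classical
  unfold evalDiv
  rw [← finprod_mul_distrib (finite_mulSupport hdim m f g) (finite_mulSupport hdim m f h)]
  refine finprod_congr fun x => ?_
  split_ifs
  · rw [one_mul]
  · rw [ord_mul hdim x hg hh, zpow_add]

/-- `g ↦ f((g))` as a homomorphism. -/
def evalHom (m : Pt c →₀ ℕ) (f : Pt c → G) : (X.functionField)ˣ →* G where
  toFun g := evalDiv m f (g : X.functionField)
  map_one' := by
    classical
    unfold evalDiv
    rw [Units.val_one]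
    have : ∀ x : Pt c, (if x ∈ m.support then (1 : G) else f x ^ x.ord (1 : X.functionField)) = 1 := by
      intro x
      rw [ord_one hdim, zpow_zero, ite_self]
    simp_rw [this, finprod_one]
  map_mul' a b := by
    rw [Units.val_mul, evalDiv_mul hdim m f a.ne_zero b.ne_zero]

theorem evalHom_apply (m : Pt c →₀ ℕ) (f : Pt c → G) (g : (X.functionField)ˣ) :
    evalHom hdim m f g = evalDiv m f (g : X.functionField) := rfl

include hdim in
theorem map_evalDiv {H : Type v} [CommGroup H] (θ : G →* H) (m : Pt c →₀ ℕ) (f : Pt c → G)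
    (g : X.functionField) : evalDiv m (fun x => θ (f x)) g = θ (evalDiv m f g) := by
  classical
  unfold evalDiv
  rw [MonoidHom.map_finprod θ (finite_mulSupport hdim m f g)]
  refine finprod_congr fun x => ?_
  split_ifs
  · rw [map_one]
  · rw [map_zpow]

include hdim in
theorem isModulus_iff (m : Pt c →₀ ℕ) (f : Pt c → G) :
    IsModulus f m ↔ ∀ g : (X.functionField)ˣ, (∀ x ∈ m.support, g ∈ U hdim x (m x)) →
      evalHom hdim m f g = 1 := by
  constructor
  · intro h g hg
    exact h g g.ne_zero fun x hx => (mem_U_iff_cong1At hdim hx g).1 (hg x hx)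
  · intro h g hg0 hg
    exact h (Units.mk0 g hg0) fun x hx => (mem_U_iff_cong1At hdim hx _).2 (hg x hx)

/-- `h` approximates `g` at `x` and `1` at the other points of `T`. -/
def Good (n : Pt c → ℕ) (T : Finset (Pt c)) (x : Pt c) (g h : (X.functionField)ˣ) : Prop :=
  h * g⁻¹ ∈ U hdim x (n x) ∧ ∀ y ∈ T, y ≠ x → h ∈ U hdim y (n y)

theorem exists_good (n : Pt c → ℕ) (T : Finset (Pt c)) (x : Pt c) (g : (X.functionField)ˣ) :
    ∃ h, Good hdim n T x g h := by
  classical
  obtain ⟨h, hh⟩ := exists_unit_approx hdim (insert x T) n (fun y => if y = x then g else 1)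
  refine ⟨h, ?_, fun y hy hyx => ?_⟩
  · have := hh x (Finset.mem_insert_self _ _)
    rwa [if_pos rfl] at this
  · have := hh y (Finset.mem_insert_of_mem hy)
    rwa [if_neg hyx, inv_one, mul_one] at this

theorem Good.mul {n : Pt c → ℕ} {T : Finset (Pt c)} {x : Pt c} {g h g' h' : (X.functionField)ˣ}
    (h1 : Good hdim n T x g h) (h2 : Good hdim n T x g' h') : Good hdim n T x (g * g') (h * h') := by
  refine ⟨?_, fun y hy hyx => mul_mem (h1.2 y hy hyx) (h2.2 y hy hyx)⟩
  have e : h * h' * (g * g')⁻¹ = (h * g⁻¹) * (h' * g'⁻¹) := by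
    rw [mul_inv]; exact mul_mul_mul_comm _ _ _ _
  rw [e]
  exact mul_mem h1.1 h2.1

theorem Good.div_mem {n : Pt c → ℕ} {T : Finset (Pt c)} {x : Pt c} {g h h' : (X.functionField)ˣ}
    (h1 : Good hdim n T x g h) (h2 : Good hdim n T x g h') :
    ∀ y ∈ T, h * h'⁻¹ ∈ U hdim y (n y) := by
  intro y hy
  by_cases hyx : y = x
  · subst hyx
    have e : h * h'⁻¹ = (h * g⁻¹) * (h' * g⁻¹)⁻¹ := by
      rw [mul_inv, inv_inv]
      rw [mul_mul_mul_comm, mul_comm g⁻¹ g]
      simp
    rw [e]
    exact mul_mem h1.1 (inv_mem h2.1)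
  · exact mul_mem (h1.2 y hy hyx) (inv_mem (h2.2 y hy hyx))

/-- the chosen approximation -/
def ch (n : Pt c → ℕ) (T : Finset (Pt c)) (x : Pt c) (g : (X.functionField)ˣ) : (X.functionField)ˣ :=
  (exists_good hdim n T x g).choose

theorem ch_spec (n : Pt c → ℕ) (T : Finset (Pt c)) (x : Pt c) (g : (X.functionField)ˣ) :
    Good hdim n T x g (ch hdim n T x g) := (exists_good hdim n T x g).choose_spec

theorem evalHom_eq_of_good {m : Pt c →₀ ℕ} {f : Pt c → G} (hm : IsModulus f m) {x : Pt c}
    {g h h' : (X.functionField)ˣ}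
    (h1 : Good hdim m m.support x g h) (h2 : Good hdim m m.support x g h') :
    evalHom hdim m f h = evalHom hdim m f h' := by
  have h3 := (isModulus_iff hdim m f).1 hm (h * h'⁻¹) (Good.div_mem hdim h1 h2)
  rw [map_mul, map_inv] at h3
  exact mul_inv_eq_one.1 h3

open Classical in
/-- The local symbol attached to a map with a modulus. -/
def sym (m : Pt c →₀ ℕ) (f : Pt c → G) (hm : IsModulus f m) (x : Pt c) : (X.functionField)ˣ →* G :=
  if hx : x ∈ m.support then
    { toFun := fun g => (evalHom hdim m f (ch hdim m m.support x g))⁻¹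
      map_one' := by
        rw [evalHom_eq_of_good hdim hm (ch_spec hdim m m.support x 1)
          (h' := 1) ⟨by rw [inv_one, mul_one]; exact one_mem _, fun _ _ _ => one_mem _⟩, map_one, inv_one]
      map_mul' := fun a b => by
        rw [evalHom_eq_of_good hdim hm (ch_spec hdim m m.support x (a * b))
          (Good.mul hdim (ch_spec hdim m m.support x a) (ch_spec hdim m m.support x b)), map_mul, mul_inv] }
  else
    { toFun := fun g => f x ^ x.ord (g : X.functionField)
      map_one' := by rw [Units.val_one, ord_one hdim, zpow_zero]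
      map_mul' := fun a b => by
        rw [Units.val_mul, ord_mul hdim x a.ne_zero b.ne_zero, zpow_add] }

theorem sym_apply_of_mem {m : Pt c →₀ ℕ} {f : Pt c → G} (hm : IsModulus f m) {x : Pt c}
    (hx : x ∈ m.support) {g h : (X.functionField)ˣ} (hgh : Good hdim m m.support x g h) :
    sym hdim m f hm x g = (evalHom hdim m f h)⁻¹ := by
  rw [sym, dif_pos hx]
  change (evalHom hdim m f (ch hdim m m.support x g))⁻¹ = _
  rw [evalHom_eq_of_good hdim hm (ch_spec hdim m m.support x g) hgh]

theorem sym_apply_of_notMem {m : Pt c →₀ ℕ} {f : Pt c → G} (hm : IsModulus f m) {x : Pt c}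
    (hx : x ∉ m.support) (g : (X.functionField)ˣ) :
    sym hdim m f hm x g = f x ^ x.ord (g : X.functionField) := by
  rw [sym, dif_neg hx]
  rfl

include hdim in
theorem finite_mulSupport' (m : Pt c →₀ ℕ) (f : Pt c → G) (σ : Pt c → (X.functionField)ˣ →* G)
    (hσ : ∀ x ∉ m.support, ∀ g : (X.functionField)ˣ, σ x g = f x ^ x.ord (g : X.functionField))
    (g : (X.functionField)ˣ) : (Function.mulSupport fun x => σ x g).Finite := by
  refine (m.support.finite_toSet.union (finite_ord_ne_zero hdim (g : X.functionField))).subset ?_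
  intro x hx
  by_contra hcon
  rw [Set.mem_union, not_or] at hcon
  apply hx
  have h1 : x ∉ m.support := hcon.1
  have h2 : x.ord (g : X.functionField) = 0 := not_not.1 hcon.2
  dsimp only
  rw [hσ x h1, h2, zpow_zero]

include hdim in
/-- The product of the values of a family equal to `f ^ ord` outside `m`. -/
theorem finprod_eq (m : Pt c →₀ ℕ) (f : Pt c → G) (σ : Pt c → (X.functionField)ˣ →* G)
    (hσ : ∀ x ∉ m.support, ∀ g : (X.functionField)ˣ, σ x g = f x ^ x.ord (g : X.functionField))
    (g : (X.functionField)ˣ) :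
    ∏ᶠ x, σ x g = (∏ x ∈ m.support, σ x g) * evalDiv m f (g : X.functionField) := by
  classical
  unfold evalDiv
  have h1 : ∀ x, σ x g = (if x ∈ m.support then σ x g else 1) *
      (if x ∈ m.support then 1 else f x ^ x.ord (g : X.functionField)) := by
    intro x
    split_ifs with hx
    · rw [mul_one]
    · rw [one_mul, hσ x hx]
  rw [finprod_congr h1, finprod_mul_distrib _ (finite_mulSupport hdim m f _)]
  · congr 1
    rw [finprod_eq_prod_of_mulSupport_subset (s := m.support)]
    · exact Finset.prod_congr rfl fun x hx => if_pos hx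
    · intro x hx
      by_contra hx'
      exact hx (if_neg hx')
  · refine m.support.finite_toSet.subset ?_
    intro x hx
    by_contra hx'
    exact hx (if_neg hx')

theorem isLocalSymbol_sym (m : Pt c →₀ ℕ) (f : Pt c → G) (hm : IsModulus f m) :
    IsLocalSymbol f m (sym hdim m f hm) where
  eq_one_of_cong x hx g hg := by
    have h1 : g ∈ U hdim x (m x) := (mem_U_iff_cong1At hdim hx g).2 hg
    rw [sym_apply_of_mem hdim hm hx (h := 1)
      ⟨by rw [one_mul]; exact inv_mem h1, fun _ _ _ => one_mem _⟩, map_one, inv_one]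
  eq_pow_of_notMem x hx g := sym_apply_of_notMem hdim hm hx g
  mulSupport_finite g := finite_mulSupport' hdim m f _ (fun x hx g => sym_apply_of_notMem hdim hm hx g) g
  finprod_eq_one g := by
    classical
    rw [finprod_eq hdim m f _ (fun x hx g => sym_apply_of_notMem hdim hm hx g) g]
    have h1 : ∏ x ∈ m.support, sym hdim m f hm x g =
        (evalHom hdim m f (∏ x ∈ m.support, ch hdim m m.support x g))⁻¹ := by
      rw [map_prod, ← Finset.prod_inv_distrib]
      exact Finset.prod_congr rfl fun x hx => sym_apply_of_mem hdim hm hx (ch_spec hdim m m.support x g)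
    rw [h1, ← evalHom_apply hdim, inv_mul_eq_one]
    have h2 : evalHom hdim m f ((∏ x ∈ m.support, ch hdim m m.support x g) * g⁻¹) = 1 := by
      apply (isModulus_iff hdim m f).1 hm
      intro y hy
      rw [← Finset.mul_prod_erase _ _ hy, mul_right_comm]
      refine mul_mem (ch_spec hdim m m.support y g).1 (prod_mem fun x hx => ?_)
      exact (ch_spec hdim m m.support x g).2 y hy (Finset.ne_of_mem_erase hx).symm
    rw [map_mul, map_inv] at h2
    exact mul_inv_eq_one.1 h2

include hdim in
theorem isModulus_of_isLocalSymbol {m : Pt c →₀ ℕ} {f : Pt c → G}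
    {σ : Pt c → (X.functionField)ˣ →* G} (hσ : IsLocalSymbol f m σ) : IsModulus f m := by
  intro g hg0 hg
  have h1 := hσ.finprod_eq_one (Units.mk0 g hg0)
  rw [finprod_eq hdim m f σ hσ.eq_pow_of_notMem, Finset.prod_eq_one, one_mul] at h1
  · exact h1
  · intro x hx
    exact hσ.eq_one_of_cong x hx _ (hg x hx)

/-- Evaluation of a local symbol: let `T` contain the support of the modulus, let `h` be congruent to
`1` to a high order at the points of `T` other than `x`. -/
theorem symbol_eq {m : Pt c →₀ ℕ} {f : Pt c → G} {σ : Pt c → (X.functionField)ˣ →* G}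
    (hσ : IsLocalSymbol f m σ) (n : Pt c → ℕ) (hn : ∀ x, m x ≤ n x) (T : Finset (Pt c)) (hT : m.support ⊆ T)
    {x : Pt c} (hx : x ∈ T) {g h : (X.functionField)ˣ} (hgh : Good hdim n T x g h) :
    σ x g = (∏ᶠ y : Pt c, open Classical in if y ∈ T then 1 else f y ^ y.ord (h : X.functionField))⁻¹ := by
  classical
  have e1 : σ x g = σ x h := by
    have h1 : h = (h * g⁻¹) * g := by group
    rw [h1, map_mul]
    symm
    rw [mul_eq_right]
    by_cases hxm : x ∈ m.support
    · exact hσ.eq_one_of_cong x hxm _ ((mem_U_iff_cong1At hdim hxm _).1 (U_anti hdim (hn x) hgh.1))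
    · rw [hσ.eq_pow_of_notMem x hxm, ord_eq_zero_of_mem_U hdim hgh.1, zpow_zero]
  have e2 : ∀ y ∈ T, y ≠ x → σ y h = 1 := by
    intro y hy hyx
    by_cases hym : y ∈ m.support
    · exact hσ.eq_one_of_cong y hym _ ((mem_U_iff_cong1At hdim hym _).1 (U_anti hdim (hn y) (hgh.2 y hy hyx)))
    · rw [hσ.eq_pow_of_notMem y hym, ord_eq_zero_of_mem_U hdim (hgh.2 y hy hyx), zpow_zero]
  have e3 := hσ.finprod_eq_one h
  have h1 : ∀ y, σ y h = (if y = x then σ x h else 1) *
      (if y ∈ T then 1 else f y ^ y.ord (h : X.functionField)) := by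
    intro y
    by_cases hyx : y = x
    · subst hyx
      rw [if_pos rfl, if_pos hx, mul_one]
    · rw [if_neg hyx, one_mul]
      split_ifs with hy
      · exact e2 y hy hyx
      · exact hσ.eq_pow_of_notMem y (fun h => hy (hT h)) h
  rw [finprod_congr h1, finprod_mul_distrib] at e3
  · rw [finprod_eq_single _ x (fun y hy => if_neg hy), if_pos rfl] at e3
    rw [e1]
    exact eq_inv_of_mul_eq_one_left e3
  · refine (Set.finite_singleton x).subset ?_
    intro y hy
    by_contra hyx
    exact hy (if_neg hyx)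
  · refine (finite_ord_ne_zero hdim (h : X.functionField)).subset ?_
    intro y hy h0
    apply hy
    dsimp only
    split_ifs
    · rfl
    · rw [h0, zpow_zero]

include hdim in
theorem symbol_unique {m n : Pt c →₀ ℕ} {f : Pt c → G} {σ τ : Pt c → (X.functionField)ˣ →* G}
    (hσ : IsLocalSymbol f m σ) (hτ : IsLocalSymbol f n τ) : σ = τ := by
  classical
  funext x
  ext g
  let T : Finset (Pt c) := insert x (m.support ∪ n.support)
  obtain ⟨h, hh⟩ := exists_good hdim (fun y => m y + n y) T x g
  rw [symbol_eq hdim hσ _ (fun y => Nat.le_add_right _ _) T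
      (fun y hy => Finset.mem_insert_of_mem (Finset.mem_union_left _ hy)) (Finset.mem_insert_self _ _) hh,
    symbol_eq hdim hτ _ (fun y => Nat.le_add_left _ _) T
      (fun y hy => Finset.mem_insert_of_mem (Finset.mem_union_right _ hy)) (Finset.mem_insert_self _ _) hh]

end K717.Sym
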