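import Groth.Agent.LocSym.K717.Sym

/-!
# Values of rational functions at rational points
-/

set_option autoImplicit false
set_option linter.unusedSectionVars false
set_option linter.style.haveILetI false
universe u v

open CategoryTheory AlgebraicGeometry WithZero

noncomputable section

namespace K717.Value

open K717.Crv K717.Basic K717.Approx K717.Sym LocSym

variable {k : Type u} [Field k] [IsAlgClosed k] {X : Scheme.{u}} [IsIntegral X]
  {c : X ⟶ Spec (CommRingCat.of k)} [IsProper c] [Smooth c] (hdim : topologicalKrullDim X = 1)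

include hdim

theorem val_le_one {x : Pt c} {g : X.functionField} {a : k} (h : HasValueAt x g a) :
    val c hdim x g ≤ 1 := by
  rw [hasValueAt_iff hdim] at h
  have e : g = (g - constFun c a) + constFun c a := by ring
  rw [e]
  exact Valuation.map_add_le _ h.le (val_const_le hdim x a)

theorem val_eq_one {x : Pt c} {g : X.functionField} {a : k} (h : HasValueAt x g a) (ha : a ≠ 0) :
    val c hdim x g = 1 := by
  rw [hasValueAt_iff hdim] at h
  have e : g = (g - constFun c a) + constFun c a := by ring
  rw [e, Valuation.map_add_eq_of_lt_right, val_const hdim x ha]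
  rw [val_const hdim x ha]
  exact h

theorem ne_zero {x : Pt c} {g : X.functionField} {a : k} (h : HasValueAt x g a) (ha : a ≠ 0) :
    g ≠ 0 := by
  rintro rfl
  have := val_eq_one hdim h ha
  rw [map_zero] at this
  exact zero_ne_one this

theorem ord_eq_zero {x : Pt c} {g : X.functionField} {a : k} (h : HasValueAt x g a) (ha : a ≠ 0) :
    x.ord g = 0 :=
  (val_eq_one_iff hdim x (ne_zero hdim h ha)).1 (val_eq_one hdim h ha)

theorem const (x : Pt c) (a : k) : HasValueAt x (constFun c a) a := Or.inl rfl

theorem one (x : Pt c) : HasValueAt x (1 : X.functionField) (1 : k) := Or.inl (map_one _).symm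

theorem mul {x : Pt c} {g h : X.functionField} {a b : k} (hg : HasValueAt x g a)
    (hh : HasValueAt x h b) : HasValueAt x (g * h) (a * b) := by
  have hg1 := val_le_one hdim hg
  rw [hasValueAt_iff hdim] at hg hh ⊢
  have e : g * h - constFun c (a * b) =
      g * (h - constFun c b) + constFun c b * (g - constFun c a) := by
    rw [map_mul]; ring
  rw [e]
  refine Valuation.map_add_lt _ ?_ ?_
  · rw [map_mul]
    calc val c hdim x g * val c hdim x (h - constFun c b)
        ≤ 1 * val c hdim x (h - constFun c b) := by gcongr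
      _ < 1 := by rwa [one_mul]
  · rw [map_mul]
    calc val c hdim x (constFun c b) * val c hdim x (g - constFun c a)
        ≤ 1 * val c hdim x (g - constFun c a) := by
          gcongr
          exact val_const_le hdim x b
      _ < 1 := by rwa [one_mul]

theorem add {x : Pt c} {g h : X.functionField} {a b : k} (hg : HasValueAt x g a)
    (hh : HasValueAt x h b) : HasValueAt x (g + h) (a + b) := by
  rw [hasValueAt_iff hdim] at hg hh ⊢
  have e : g + h - constFun c (a + b) =
      (g - constFun c a) + (h - constFun c b) := by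
    rw [map_add]; ring
  rw [e]
  exact Valuation.map_add_lt _ hg hh

theorem neg {x : Pt c} {g : X.functionField} {a : k} (hg : HasValueAt x g a) :
    HasValueAt x (-g) (-a) := by
  rw [hasValueAt_iff hdim] at hg ⊢
  have e : -g - constFun c (-a) = -(g - constFun c a) := by
    rw [map_neg]; ring
  rw [e, Valuation.map_neg]
  exact hg

theorem inv {x : Pt c} {g : X.functionField} {a : k} (hg : HasValueAt x g a) (ha : a ≠ 0) :
    HasValueAt x g⁻¹ a⁻¹ := by
  have hg0 := ne_zero hdim hg ha
  have hg1 := val_eq_one hdim hg ha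
  rw [hasValueAt_iff hdim] at hg ⊢
  have hca : constFun c a ≠ 0 := by simpa using ha
  have e : g⁻¹ - constFun c a⁻¹ = -((g⁻¹ * (constFun c a)⁻¹) * (g - constFun c a)) := by
    rw [map_inv₀]
    field_simp
    ring
  rw [e, Valuation.map_neg, map_mul, map_mul, map_inv₀, map_inv₀, hg1, val_const hdim x ha, inv_one,
    one_mul, one_mul]
  exact hg

theorem pow {x : Pt c} {g : X.functionField} {a : k} (hg : HasValueAt x g a) (n : ℕ) :
    HasValueAt x (g ^ n) (a ^ n) := by
  induction n with
  | zero => rw [pow_zero, pow_zero]; exact one hdim x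
  | succ n ih => rw [pow_succ, pow_succ]; exact mul hdim ih hg

theorem zpow {x : Pt c} {g : X.functionField} {a : kˣ} (hg : HasValueAt x g (a : k)) (n : ℤ) :
    HasValueAt x (g ^ n) ((a ^ n : kˣ) : k) := by
  rcases n with n | n
  · rw [Int.ofNat_eq_natCast, zpow_natCast, zpow_natCast, Units.val_pow_eq_pow_val]
    exact pow hdim hg n
  · rw [zpow_negSucc, zpow_negSucc, Units.val_inv_eq_inv_val, Units.val_pow_eq_pow_val]
    exact inv hdim (pow hdim hg _) (pow_ne_zero _ a.ne_zero)

theorem div {x : Pt c} {g h : X.functionField} {a b : kˣ} (hg : HasValueAt x g (a : k))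
    (hh : HasValueAt x h (b : k)) : HasValueAt x (g / h) ((a / b : kˣ) : k) := by
  rw [div_eq_mul_inv, div_eq_mul_inv, Units.val_mul, Units.val_inv_eq_inv_val]
  exact mul hdim hg (inv hdim hh b.ne_zero)

/-- A function of order `0` has a nonzero value. -/
theorem exists_unit_value (x : Pt c) {g : X.functionField} (hg : g ≠ 0) (h : x.ord g = 0) :
    ∃ a : kˣ, HasValueAt x g (a : k) := by
  have h1 := (val_eq_one_iff hdim x hg).2 h
  obtain ⟨a, ha⟩ := exists_value hdim x g h1.le
  have ha0 : a ≠ 0 := by
    rintro rfl
    rw [map_zero, sub_zero, h1] at ha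
    exact lt_irrefl _ ha
  exact ⟨Units.mk0 a ha0, (hasValueAt_iff hdim _ _ _).2 ha⟩

theorem mem_U_one_iff (x : Pt c) (g : (X.functionField)ˣ) :
    g ∈ U hdim x 1 ↔ HasValueAt x (g : X.functionField) (1 : k) := by
  rw [mem_U_of_pos hdim Nat.one_pos, hasValueAt_iff hdim, map_one, Valuation.map_sub_swap, Nat.cast_one]
  rw [val_le_exp_iff, val_lt_one_iff]
  rfl

/-- For a reduced modulus, congruence to one means value one. -/
theorem cong1At_iff_of_le_one {m : Pt c →₀ ℕ} {x : Pt c} (hx : x ∈ m.support) (hm : m x ≤ 1)
    (g : X.functionField) : Cong1At m x g ↔ HasValueAt x g (1 : k) := by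
  have h1 : m x = 1 := by
    have := Finsupp.mem_support_iff.1 hx
    omega
  rw [Cong1At, HasValueAt, map_one, h1, ord_eq_log hdim, ord_eq_log hdim, Valuation.map_sub_swap]
  rfl

/-- Interpolation of values. -/
theorem exists_interp (T : Finset (Pt c)) (v : Pt c → kˣ) :
    ∃ g : (X.functionField)ˣ, ∀ x ∈ T, HasValueAt x (g : X.functionField) (v x : k) := by
  obtain ⟨g, hg⟩ := exists_unit_approx hdim T (fun _ => 1)
    (fun x => Units.map (constFun c).toMonoidHom (v x))
  refine ⟨g, fun x hx => ?_⟩
  have h1 := (mem_U_one_iff hdim x _).1 (hg x hx)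
  have h2 := mul hdim h1 (const hdim x (v x : k))
  rw [one_mul, Units.val_mul, Units.val_inv_eq_inv_val] at h2
  have e : (g : X.functionField) * ((Units.map (constFun c).toMonoidHom (v x) : (X.functionField)ˣ) :
      X.functionField)⁻¹ * constFun c (v x : k) = g := by
    have h3 : ((Units.map (constFun c).toMonoidHom (v x) : (X.functionField)ˣ) :
      X.functionField) = constFun c (v x : k) := rfl
    have h4 : constFun c (v x : k) ≠ 0 := by simp
    rw [h3]
    field_simp
  rwa [e] at h2

end K717.Value
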