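import Groth.Agent.LocSym.K717.Crv
import Groth.Agent.Models.FFRR3
import Groth.Agent.MiscA.ZetaCrv

/-!
# Orders, values, approximation and degree on the rational points of a smooth proper curve
over an algebraically closed field, in terms of `LocSym`
-/

set_option autoImplicit false
set_option linter.unusedSectionVars false
set_option linter.style.haveILetI false
universe u v

open CategoryTheory AlgebraicGeometry WithZero

noncomputable section

namespace K717.Basic

open K717.Crv Groth.Agent.Models.FFRR Groth.Agent.Models.FFLen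

variable {k : Type u} [Field k] [IsAlgClosed k] {X : Scheme.{u}} [IsIntegral X]
  (c : X ⟶ Spec (CommRingCat.of k)) [IsProper c] [Smooth c] (hdim : topologicalKrullDim X = 1)

/-- The normalized valuation at a rational point. -/
def val (x : LocSym.Pt c) : Valuation X.functionField ℤᵐ⁰ :=
  letI := algK c
  (crv c hdim).v x

variable {c}

theorem ord_eq_log (x : LocSym.Pt c) (g : X.functionField) : x.ord g = - log (val c hdim x g) :=
  ord_eq c hdim x g

theorem val_eq_exp (x : LocSym.Pt c) {g : X.functionField} (hg : g ≠ 0) :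
    val c hdim x g = exp (-x.ord g) := by
  rw [ord_eq_log hdim, neg_neg, exp_log ((Valuation.ne_zero_iff _).mpr hg)]

theorem val_le_exp_iff (x : LocSym.Pt c) (g : X.functionField) (n : ℤ) :
    val c hdim x g ≤ exp (-n) ↔ g = 0 ∨ n ≤ x.ord g := by
  by_cases hg : g = 0
  · simp [hg]
  · rw [val_eq_exp hdim x hg, exp_le_exp]
    simp [hg]

theorem val_le_one_iff (x : LocSym.Pt c) (g : X.functionField) :
    val c hdim x g ≤ 1 ↔ g = 0 ∨ 0 ≤ x.ord g := by
  have := val_le_exp_iff hdim x g 0
  rwa [neg_zero, exp_zero] at this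

theorem val_lt_one_iff (x : LocSym.Pt c) (g : X.functionField) :
    val c hdim x g < 1 ↔ g = 0 ∨ 0 < x.ord g := by
  by_cases hg : g = 0
  · simp [hg]
  · rw [val_eq_exp hdim x hg, ← exp_zero, exp_lt_exp]
    simp [hg]

theorem val_eq_one_iff (x : LocSym.Pt c) {g : X.functionField} (hg : g ≠ 0) :
    val c hdim x g = 1 ↔ x.ord g = 0 := by
  rw [val_eq_exp hdim x hg, ← exp_zero, exp_inj]
  omega

theorem cong1At_iff (m : LocSym.Pt c →₀ ℕ) (x : LocSym.Pt c) (g : X.functionField) :
    LocSym.Cong1At m x g ↔ val c hdim x (1 - g) ≤ exp (-(m x : ℤ)) := by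
  rw [val_le_exp_iff, LocSym.Cong1At]
  refine or_congr ?_ Iff.rfl
  rw [sub_eq_zero, eq_comm]

theorem hasValueAt_iff (x : LocSym.Pt c) (g : X.functionField) (a : k) :
    LocSym.HasValueAt x g a ↔ val c hdim x (g - LocSym.constFun c a) < 1 := by
  rw [val_lt_one_iff, LocSym.HasValueAt, sub_eq_zero]

theorem val_const (x : LocSym.Pt c) {a : k} (ha : a ≠ 0) :
    val c hdim x (LocSym.constFun c a) = 1 := by
  letI := algK c
  exact (crv c hdim).v_const_eq x ha

theorem val_const_le (x : LocSym.Pt c) (a : k) :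
    val c hdim x (LocSym.constFun c a) ≤ 1 := by
  letI := algK c
  exact (crv c hdim).v_const x a

include hdim

theorem ord_mul (x : LocSym.Pt c) {f g : X.functionField} (hf : f ≠ 0) (hg : g ≠ 0) :
    x.ord (f * g) = x.ord f + x.ord g := by
  rw [ord_eq_log hdim, ord_eq_log hdim, ord_eq_log hdim, map_mul, log_mul]
  · ring
  · exact (Valuation.ne_zero_iff _).mpr hf
  · exact (Valuation.ne_zero_iff _).mpr hg

theorem ord_one (x : LocSym.Pt c) : x.ord (1 : X.functionField) = 0 := by
  rw [ord_eq_log hdim, map_one, log_one, neg_zero]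

theorem ord_zero (x : LocSym.Pt c) : x.ord (0 : X.functionField) = 0 := by
  rw [ord_eq_log hdim, map_zero, log_zero, neg_zero]

theorem ord_inv (x : LocSym.Pt c) (f : X.functionField) : x.ord f⁻¹ = - x.ord f := by
  rw [ord_eq_log hdim, ord_eq_log hdim, map_inv₀, log_inv]

theorem ord_div (x : LocSym.Pt c) {f g : X.functionField} (hf : f ≠ 0) (hg : g ≠ 0) :
    x.ord (f / g) = x.ord f - x.ord g := by
  rw [div_eq_mul_inv, ord_mul hdim x hf (inv_ne_zero hg), ord_inv hdim]
  ring

theorem ord_zpow (x : LocSym.Pt c) (f : X.functionField) (n : ℤ) :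
    x.ord (f ^ n) = n * x.ord f := by
  rw [ord_eq_log hdim, ord_eq_log hdim, map_zpow₀, log_zpow]
  ring

theorem ord_pow (x : LocSym.Pt c) (f : X.functionField) (n : ℕ) :
    x.ord (f ^ n) = n * x.ord f := by
  rw [← zpow_natCast, ord_zpow hdim]

theorem ord_neg (x : LocSym.Pt c) (f : X.functionField) : x.ord (-f) = x.ord f := by
  rw [ord_eq_log hdim, ord_eq_log hdim, Valuation.map_neg]

theorem ord_const (x : LocSym.Pt c) (a : k) : x.ord (LocSym.constFun c a) = 0 := by
  by_cases ha : a = 0
  · rw [ha, map_zero, ord_zero hdim]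
  · rw [ord_eq_log hdim, val_const hdim x ha, log_one, neg_zero]

/-- The order as a homomorphism. -/
theorem exists_ordHom (x : LocSym.Pt c) :
    ∃ φ : (X.functionField)ˣ →* Multiplicative ℤ, ∀ g, φ g = Multiplicative.ofAdd (x.ord (g : X.functionField)) :=
  ⟨{ toFun := fun g => Multiplicative.ofAdd (x.ord (g : X.functionField))
     map_one' := by rw [Units.val_one, ord_one hdim]; rfl
     map_mul' := fun a b => by
      rw [Units.val_mul, ord_mul hdim x a.ne_zero b.ne_zero]; rfl }, fun _ => rfl⟩

theorem finite_ord_ne_zero (g : X.functionField) : {x : LocSym.Pt c | x.ord g ≠ 0}.Finite := by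
  letI := algK c
  have h := ((crv c hdim).div g).hasFiniteSupport
  refine h.subset ?_
  intro x hx
  rw [Function.mem_support, ← ord_eq_div c hdim x g]
  exact hx

/-- The divisor of a rational function. -/
theorem exists_divisor (g : X.functionField) :
    ∃ D : LocSym.Pt c →₀ ℤ, ∀ x, D x = x.ord g :=
  ⟨Finsupp.ofSupportFinite (fun x => x.ord g) (finite_ord_ne_zero hdim g), fun _ => rfl⟩

theorem sum_eq_zero {g : X.functionField} (hg : g ≠ 0) (D : LocSym.Pt c →₀ ℤ)
    (hD : ∀ x, D x = x.ord g) : (D.sum fun _ n => n) = 0 := by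
  letI := algK c
  have : D = (crv c hdim).div g := by
    ext x
    rw [hD, ord_eq_div c hdim]
  rw [← crv_deg c hdim, this]
  exact (crv_fin c hdim).deg_div hg

theorem finsum_ord_eq_zero {g : X.functionField} (hg : g ≠ 0) :
    ∑ᶠ x : LocSym.Pt c, x.ord g = 0 := by
  obtain ⟨D, hD⟩ := exists_divisor (c := c) hdim g
  have h := sum_eq_zero hdim hg D hD
  rw [Finsupp.sum] at h
  rw [← h, finsum_eq_sum_of_support_subset (s := D.support)]
  · exact Finset.sum_congr rfl fun x _ => (hD x).symm
  · intro x hx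
    rw [Function.mem_support, ← hD] at hx
    simpa using hx

/-- A function without poles is constant. -/
theorem exists_const_of_forall (g : X.functionField) (h : ∀ x : LocSym.Pt c, val c hdim x g ≤ 1) :
    ∃ a : k, g = LocSym.constFun c a := by
  letI := algK c
  have := nonempty_pt c hdim
  by_cases hg : g = 0
  · exact ⟨0, by rw [hg, map_zero]⟩
  have h1 : 0 ≤ (crv c hdim).div g := by
    intro x
    rw [← ord_eq_div c hdim]
    rcases (val_le_one_iff hdim x g).1 (h x) with h2 | h2
    · exact absurd h2 hg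
    · exact h2
  have h2 : (crv c hdim).div g = 0 := by
    by_contra h3
    have := (crv_fin c hdim).deg_pos h1 h3
    rw [(crv_fin c hdim).deg_div hg] at this
    exact lt_irrefl _ this
  obtain ⟨a, -, ha⟩ := Groth.Agent.MiscA.ZetaCrv.exists_const_of_div_eq_zero (crv_fin c hdim)
    (crv_l_zero c hdim) hg h2
  exact ⟨a, ha.symm⟩

/-- A regular function has a value. -/
theorem exists_value (x : LocSym.Pt c) (g : X.functionField) (h : val c hdim x g ≤ 1) :
    ∃ a : k, val c hdim x (g - LocSym.constFun c a) < 1 := by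
  letI := algK c
  have h1 : rlen ((crv c hdim).Fil x (-1)) ((crv c hdim).Fil x 0) = 1 := by
    have h2 := crv_dg0 c hdim x
    unfold Crv.dg0 at h2
    have h3 := (crv_fin c hdim).finRes x
    obtain ⟨n, hn⟩ := ENat.ne_top_iff_exists.1 h3
    rw [← hn] at h2 ⊢
    rw [ENat.toNat_natCast] at h2
    rw [h2]
    rfl
  unfold rlen at h1
  rw [Module.length_eq_one_iff] at h1
  have hlt : ∀ f : X.functionField, f ∈ (crv c hdim).Fil x (-1) ↔ val c hdim x f < 1 := by
    intro f
    rw [Crv.mem_Fil]
    change val c hdim x f ≤ exp (-1) ↔ _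
    rw [val_le_exp_iff, val_lt_one_iff]
    rfl
  have h1mem : (1 : X.functionField) ∈ (crv c hdim).Fil x 0 := by
    rw [Crv.mem_Fil, map_one, exp_zero]
  have hgmem : g ∈ (crv c hdim).Fil x 0 := by
    rw [Crv.mem_Fil, exp_zero]
    exact h
  set Q := ((crv c hdim).Fil x 0) ⧸ ((crv c hdim).Fil x (-1)).submoduleOf ((crv c hdim).Fil x 0)
  have hne : (Submodule.Quotient.mk ⟨1, h1mem⟩ : Q) ≠ 0 := by
    rw [ne_eq, Submodule.Quotient.mk_eq_zero, mem_subOf, hlt]
    change ¬ val c hdim x 1 < 1
    rw [map_one]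
    exact lt_irrefl _
  have h4 := IsSimpleModule.span_singleton_eq_top k hne
  have h5 : (Submodule.Quotient.mk ⟨g, hgmem⟩ : Q) ∈ Submodule.span k {(Submodule.Quotient.mk ⟨1, h1mem⟩ : Q)} := by
    rw [h4]
    trivial
  obtain ⟨a, ha⟩ := Submodule.mem_span_singleton.1 h5
  refine ⟨a, ?_⟩
  rw [← Submodule.Quotient.mk_smul, eq_comm, Submodule.Quotient.eq, mem_subOf, hlt] at ha
  have e : ((⟨g, hgmem⟩ - a • ⟨1, h1mem⟩ : (crv c hdim).Fil x 0) : X.functionField) =
      g - LocSym.constFun c a := by
    change g - a • (1 : X.functionField) = _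
    rw [Algebra.smul_def, mul_one]
    rfl
  rwa [e] at ha

theorem value_unique (x : LocSym.Pt c) (g : X.functionField) {a b : k}
    (ha : LocSym.HasValueAt x g a) (hb : LocSym.HasValueAt x g b) : a = b := by
  rw [hasValueAt_iff hdim] at ha hb
  by_contra hab
  have h1 : val c hdim x (LocSym.constFun c (a - b)) < 1 := by
    have e : LocSym.constFun c (a - b) = (g - LocSym.constFun c b) - (g - LocSym.constFun c a) := by
      rw [map_sub]; ring
    rw [e]
    exact (Valuation.map_sub _ _ _).trans_lt (max_lt hb ha)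
  rw [val_const hdim x (sub_ne_zero.2 hab)] at h1
  exact lt_irrefl _ h1

end K717.Basic
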