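import Groth.Agent.LocSym.K717.Ord
import Groth.Agent.MiscA.WCBridge
import Groth.Agent.MiscA.WCSep
import Groth.Agent.MiscA.CurveH1E
import Groth.Prelude.Def_W4bk6serrecg25LocSym
import Mathlib.AlgebraicGeometry.AlgClosed.Basic

/-!
# The abstract curve (`Crv`) of the rational points of a smooth proper curve over an algebraically closed field
-/

set_option autoImplicit false
set_option linter.unusedSectionVars false
set_option linter.style.haveILetI false
universe u v

open CategoryTheory AlgebraicGeometry WithZero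

noncomputable section

namespace K717.Crv

open Groth.Agent.MiscA.CurvePlaces Groth.Agent.MiscA.WCPlace Groth.Agent.MiscA.WCPlaceCrv
  Groth.Agent.MiscA.WCBridge Groth.Agent.Models.FFRR Groth.Agent.MiscA.CurveH1E Groth.Agent.Models.FFLen

variable {k : Type u} [Field k] {X : Scheme.{u}} [IsIntegral X] (c : X ⟶ Spec (CommRingCat.of k))

/-- the `k`-algebra structure of the function field given by the structure morphism. -/
abbrev algK : Algebra k X.functionField := (LocSym.constFun c).toAlgebra

theorem genericPt_comp : genericPt X ≫ c =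
    Spec.map (CommRingCat.ofHom (LocSym.constFun c)) := by
  have e : CommRingCat.ofHom (LocSym.constFun c) =
      (Scheme.ΓSpecIso (CommRingCat.of k)).inv ≫ c.appTop ≫
        X.presheaf.germ ⊤ (genericPoint X) trivial := rfl
  rw [e, Spec.map_comp, Spec.map_comp, genericPt]
  have h1 : Spec.map (X.presheaf.germ ⊤ (genericPoint X) trivial) =
      X.fromSpecStalk (genericPoint X) ≫ X.toSpecΓ := by
    rw [Scheme.fromSpecStalk_toSpecΓ]
  have h2 : X.toSpecΓ ≫ Spec.map c.appTop = c ≫ (Spec (CommRingCat.of k)).toSpecΓ := by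
    rw [Scheme.toSpecΓ_naturality]
  have h3 : (Spec (CommRingCat.of k)).toSpecΓ ≫
      Spec.map (Scheme.ΓSpecIso (CommRingCat.of k)).inv = 𝟙 _ := by
    simp
  rw [h1, Category.assoc, Category.assoc, reassoc_of% h2, h3, Category.comp_id]

variable [IsAlgClosed k] [IsProper c] [Smooth c] (hdim : topologicalKrullDim X = 1)

/-- Rational points and closed points. -/
def ptEquiv : LocSym.Pt c ≃ {x : X // IsClosed ({x} : Set X)} := pointEquivClosedPoint c

omit [IsIntegral X] [Smooth c] in
theorem ptEquiv_apply (x : LocSym.Pt c) : (ptEquiv c x).1 = x.pt := rfl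

omit [IsIntegral X] [Smooth c] in
theorem pt_injective : Function.Injective (LocSym.Pt.pt (c := c)) := by
  intro x y h
  exact (ptEquiv c).injective (Subtype.ext h)

omit [IsIntegral X] [Smooth c] in
theorem isClosed_pt (x : LocSym.Pt c) : IsClosed ({x.pt} : Set X) := (ptEquiv c x).2

omit [IsIntegral X] [Smooth c] in
theorem exists_pt (x : X) (hx : IsClosed ({x} : Set X)) : ∃ y : LocSym.Pt c, y.pt = x :=
  ⟨(ptEquiv c).symm ⟨x, hx⟩, congrArg Subtype.val ((ptEquiv c).apply_symm_apply ⟨x, hx⟩)⟩

include hdim in
theorem exists_isSep : letI := algK c; ∃ t : X.functionField, IsSep k X.functionField t :=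
  letI := algK c
  Groth.Agent.MiscA.WCSep.exists_isSep c hdim (genericPt_comp c)

/-- The rational points are the places of the function field. -/
def plEquiv : letI := algK c; LocSym.Pt c ≃ Place k X.functionField :=
  letI := algK c
  (ptEquiv c).trans (placeEquiv c (genericPt_comp c) hdim)

theorem mem_plEquiv (x : LocSym.Pt c) (y : X.functionField) :
    letI := algK c
    y ∈ (plEquiv c hdim x).1 ↔ ∃ a : X.presheaf.stalk x.pt, algebraMap _ X.functionField a = y :=
  letI := algK c
  mem_placeOf c (genericPt_comp c) hdim ⟨x.pt, isClosed_pt c x⟩ y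

/-- The abstract curve. -/
def crv : letI := algK c; Crv k X.functionField (LocSym.Pt c) :=
  letI := algK c
  reindex (Groth.Agent.MiscA.WCPlaceCrv.crv (exists_isSep c hdim)) (plEquiv c hdim).symm

theorem crv_v_le_one (x : LocSym.Pt c) (y : X.functionField) :
    letI := algK c
    (crv c hdim).v x y ≤ 1 ↔ ∃ a : X.presheaf.stalk x.pt, algebraMap _ X.functionField a = y := by
  letI := algK c
  rw [← mem_plEquiv c hdim]
  obtain ⟨t, ht⟩ := exists_isSep c hdim
  exact ht.val_le_one_iff _ _

include hdim in
theorem pt_ne_genericPoint (x : LocSym.Pt c) : x.pt ≠ genericPoint X := by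
  intro h
  have h1 := isClosed_pt c x
  rw [h] at h1
  exact not_isClosed_genericPoint hdim h1

include hdim in
theorem isDVR (x : LocSym.Pt c) : IsDiscreteValuationRing (X.presheaf.stalk x.pt) :=
  isDiscreteValuationRing_stalk c ⟨inferInstance, inferInstance, inferInstance, hdim⟩ x.pt
    (pt_ne_genericPoint c hdim x)

theorem ord_eq (x : LocSym.Pt c) (g : X.functionField) :
    letI := algK c
    x.ord g = - log ((crv c hdim).v x g) := by
  letI := algK c
  have := isDVR c hdim x
  exact Ord.ordFrac_eq_neg_log (X.presheaf.stalk x.pt) X.functionField ((crv c hdim).v x)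
    ((crv c hdim).exists_unif x) (crv_v_le_one c hdim x) g

theorem ord_eq_div (x : LocSym.Pt c) (g : X.functionField) :
    letI := algK c
    x.ord g = (crv c hdim).div g x :=
  ord_eq c hdim x g

section reindex

variable {k : Type*} {K : Type*} {P : Type*} {Q : Type*} [Field k] [Field K] [Algebra k K]

theorem reindex_L_zero (C : Groth.Agent.Models.FFRR.Crv k K P) (e : P ≃ Q) : (reindex C e).L 0 = C.L 0 := by
  ext f
  rw [Crv.mem_L, Crv.mem_L]
  constructor
  · intro h p
    have := h (e p)
    rw [reindex_v, e.symm_apply_apply] at this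
    exact this
  · intro h q
    exact h (e.symm q)

theorem reindex_h0_zero (C : Groth.Agent.Models.FFRR.Crv k K P) (e : P ≃ Q) [Nonempty P] [Nonempty Q] :
    (reindex C e).h0 0 = C.h0 0 := by
  rw [Crv.h0_eq, Crv.h0_eq, reindex_L_zero]

theorem reindex_fin (C : Groth.Agent.Models.FFRR.Crv k K P) (e : P ≃ Q) [Nonempty P] [Nonempty Q]
    (hC : C.Fin) : (reindex C e).Fin where
  finRes q := hC.finRes (e.symm q)
  h0_zero := by
    rw [reindex_h0_zero]
    exact hC.h0_zero
  h1_zero := by
    rw [reindex_h1_zero]
    exact hC.h1_zero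

theorem reindex_l_zero (C : Groth.Agent.Models.FFRR.Crv k K P) (e : P ≃ Q) [Nonempty P] [Nonempty Q] :
    (reindex C e).l 0 = C.l 0 := by
  unfold Crv.l
  rw [reindex_h0_zero]

theorem reindex_dg0 (C : Groth.Agent.Models.FFRR.Crv k K P) (e : P ≃ Q) (q : Q) :
    (reindex C e).dg0 q = C.dg0 (e.symm q) := rfl

end reindex

include hdim in
theorem nonempty_pt : Nonempty (LocSym.Pt c) := by
  letI := algK c
  have := Groth.Agent.MiscA.WCPlaceRes.nonempty_place (exists_isSep c hdim)
  exact (plEquiv c hdim).nonempty

theorem crv_fin : letI := algK c; (crv c hdim).Fin := by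
  letI := algK c
  have := Groth.Agent.MiscA.WCPlaceRes.nonempty_place (exists_isSep c hdim)
  have := nonempty_pt c hdim
  exact reindex_fin _ _ (Groth.Agent.MiscA.WCPlaceCrv.crv_fin (exists_isSep c hdim))

theorem crv_l_zero : letI := algK c; (crv c hdim).l 0 = 1 := by
  letI := algK c
  have := Groth.Agent.MiscA.WCPlaceRes.nonempty_place (exists_isSep c hdim)
  have := nonempty_pt c hdim
  unfold crv
  rw [reindex_l_zero]
  exact Groth.Agent.MiscA.WCPlaceRes.l_zero_eq_one_of_isAlgClosed (exists_isSep c hdim)

theorem crv_dg0 (x : LocSym.Pt c) : letI := algK c; (crv c hdim).dg0 x = 1 := by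
  letI := algK c
  unfold crv
  rw [reindex_dg0]
  exact Groth.Agent.MiscA.WCPlaceRes.dg0_eq_one (exists_isSep c hdim) _

theorem crv_deg (D : LocSym.Pt c →₀ ℤ) : letI := algK c; (crv c hdim).deg D = D.sum fun _ n => n := by
  letI := algK c
  unfold Crv.deg
  rw [Finsupp.liftAddHom_apply]
  refine Finsupp.sum_congr fun x _ => ?_
  rw [AddMonoidHom.coe_mulRight, crv_dg0]
  simp

end K717.Crv
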