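import Groth.Agent.LocSym.K717.Basic

/-!
# Zeros and poles, infinitely many points, approximation
-/

set_option autoImplicit false
set_option linter.unusedSectionVars false
set_option linter.style.haveILetI false
universe u v

open CategoryTheory AlgebraicGeometry WithZero

noncomputable section

namespace K717.Approx

open K717.Crv K717.Basic Groth.Agent.Models.FFRR Groth.Agent.Models.FFLen

variable {k : Type u} [Field k] [IsAlgClosed k] {X : Scheme.{u}} [IsIntegral X]
  {c : X ⟶ Spec (CommRingCat.of k)} [IsProper c] [Smooth c] (hdim : topologicalKrullDim X = 1)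

include hdim

/-- If a function has a pole then it has a zero, and conversely. -/
theorem exists_zero_of_pole {g : X.functionField} (h : ∃ x : LocSym.Pt c, x.ord g < 0) :
    ∃ x : LocSym.Pt c, 0 < x.ord g := by
  have hg : g ≠ 0 := by
    rintro rfl
    obtain ⟨x, hx⟩ := h
    rw [ord_zero hdim] at hx
    exact lt_irrefl _ hx
  by_contra hcon
  push Not at hcon
  obtain ⟨x, hx⟩ := h
  obtain ⟨D, hD⟩ := exists_divisor (c := c) hdim g
  have h1 := sum_eq_zero hdim hg D hD
  have h2 : (D.sum fun _ n => n) < 0 := by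
    rw [Finsupp.sum]
    refine Finset.sum_neg' (fun y _ => ?_) ⟨x, ?_, ?_⟩
    · rw [hD]
      exact hcon y
    · rw [Finsupp.mem_support_iff, hD]
      exact hx.ne
    · rw [hD]
      exact hx
  rw [h1] at h2
  exact lt_irrefl _ h2

theorem ord_sub_const_of_neg (x : LocSym.Pt c) {g : X.functionField} (hx : x.ord g < 0) (a : k) :
    x.ord (g - LocSym.constFun c a) = x.ord g := by
  have hg : g ≠ 0 := by
    rintro rfl
    rw [ord_zero hdim] at hx
    exact lt_irrefl _ hx
  have h1 : val c hdim x (LocSym.constFun c a) < val c hdim x g := by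
    refine (val_const_le hdim x a).trans_lt ?_
    rw [val_eq_exp hdim x hg, ← exp_zero, exp_lt_exp]
    omega
  rw [ord_eq_log hdim, ord_eq_log hdim, Valuation.map_sub_eq_of_lt_left _ h1]

/-- A nonconstant function takes every value. -/
theorem exists_hasValueAt {g : X.functionField} (h : ∃ x : LocSym.Pt c, x.ord g < 0) (a : k) :
    ∃ x : LocSym.Pt c, LocSym.HasValueAt x g a := by
  obtain ⟨x, hx⟩ := h
  obtain ⟨y, hy⟩ := exists_zero_of_pole hdim ⟨x, (ord_sub_const_of_neg hdim x hx a).trans_lt hx⟩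
  exact ⟨y, Or.inr hy⟩

theorem exists_ord_eq (x : LocSym.Pt c) (n : ℤ) : ∃ g : X.functionField, g ≠ 0 ∧ x.ord g = n := by
  letI := algK c
  obtain ⟨t, ht⟩ := (crv c hdim).exists_v_eq x (-n)
  have ht0 : t ≠ 0 := by
    rintro rfl
    rw [map_zero] at ht
    exact exp_ne_zero ht.symm
  refine ⟨t, ht0, ?_⟩
  have h1 : val c hdim x t = exp (-n) := ht
  rw [val_eq_exp hdim x ht0, exp_inj] at h1
  omega

theorem exists_pole_of_not_const {g : X.functionField} (hg : ∀ a : k, g ≠ LocSym.constFun c a) :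
    ∃ x : LocSym.Pt c, x.ord g < 0 := by
  by_contra hcon
  push Not at hcon
  obtain ⟨a, ha⟩ := exists_const_of_forall (c := c) hdim g
    (fun x => (val_le_one_iff hdim x g).2 (Or.inr (hcon x)))
  exact hg a ha

theorem exists_nonconst : ∃ g : X.functionField, ∃ x : LocSym.Pt c, x.ord g < 0 := by
  obtain ⟨x⟩ := nonempty_pt c hdim
  obtain ⟨g, -, hg⟩ := exists_ord_eq hdim x (-1)
  exact ⟨g, x, by omega⟩

theorem infinite_pt : Infinite (LocSym.Pt c) := by
  obtain ⟨g, hg⟩ := exists_nonconst (c := c) hdim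
  choose f hf using exists_hasValueAt hdim hg
  have : Function.Injective f := by
    intro a b hab
    have h1 := hf a
    rw [hab] at h1
    exact value_unique hdim _ g h1 (hf b)
  have : Infinite k := IsAlgClosed.instInfinite
  exact Infinite.of_injective f ‹_›

/-- Strong approximation with a bound given by a divisor of large degree. -/
theorem exists_bound : ∃ b : ℤ, 0 ≤ b ∧ ∀ D : LocSym.Pt c →₀ ℤ, b ≤ (D.sum fun _ n => n) →
    ∀ α : LocSym.Pt c → X.functionField, {x | ¬ val c hdim x (α x) ≤ 1}.Finite →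
      ∃ f : X.functionField, ∀ x, val c hdim x (α x - f) ≤ exp (D x) := by
  letI := algK c
  have := nonempty_pt c hdim
  obtain ⟨b, hb0, hb⟩ := (crv_fin c hdim).exists_bound
  refine ⟨b, hb0, fun D hD α hα => ?_⟩
  have h1 : (crv c hdim).i D = 0 := hb D (by rwa [crv_deg])
  have h2 : (crv c hdim).h1 D = 0 := by
    unfold Crv.i at h1
    rw [ENat.toNat_eq_zero] at h1
    rcases h1 with h1 | h1
    · exact h1
    · exact absurd h1 ((crv_fin c hdim).h1_ne_top D)
  unfold Crv.h1 at h2
  rw [rlen_eq_zero_iff] at h2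
  have h3 : α ∈ (crv c hdim).Rk := (crv c hdim).mem_Rk.2 hα
  obtain ⟨β, hβ, γ, hγ, h4⟩ := Submodule.mem_sup.1 (h2 h3)
  obtain ⟨f, rfl⟩ := hγ
  refine ⟨f, fun x => ?_⟩
  have h5 : α x - f = β x := by
    rw [← h4]
    change β x + f - f = β x
    ring
  rw [h5]
  exact hβ x

/-- Strong approximation: poles allowed at one point. -/
theorem exists_strong (x₀ : LocSym.Pt c) (T : Finset (LocSym.Pt c)) (hT : x₀ ∉ T) (N : ℕ)
    (t : LocSym.Pt c → X.functionField) :
    ∃ f : X.functionField, (∀ x ∈ T, val c hdim x (f - t x) ≤ exp (-(N : ℤ))) ∧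
      ∀ x ∉ T, x ≠ x₀ → val c hdim x f ≤ 1 := by
  classical
  obtain ⟨b, hb0, hb⟩ := exists_bound (c := c) hdim
  let D : LocSym.Pt c →₀ ℤ := Finsupp.single x₀ (b + N * T.card) - ∑ x ∈ T, Finsupp.single x (N : ℤ)
  have hsum : (D.sum fun _ n => n) = b := by
    have hlin : ∀ E : LocSym.Pt c →₀ ℤ, (E.sum fun _ n => n) = Finsupp.liftAddHom (fun _ => AddMonoidHom.id ℤ) E :=
      fun E => rfl
    rw [hlin, map_sub, map_sum]
    simp only [Finsupp.liftAddHom_apply_single, AddMonoidHom.id_apply, Finset.sum_const,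
      nsmul_eq_mul]
    ring
  have hDT : ∀ x ∈ T, D x = -(N : ℤ) := by
    intro x hx
    have hne : x₀ ≠ x := fun h => hT (h ▸ hx)
    simp only [D, Finsupp.coe_sub, Pi.sub_apply, Finsupp.single_apply, if_neg hne,
      Finsupp.coe_finsetSum, Finset.sum_apply, Finset.sum_ite_eq', if_pos hx]
    ring
  have hDn : ∀ x ∉ T, x ≠ x₀ → D x = 0 := by
    intro x hx hne
    simp only [D, Finsupp.coe_sub, Pi.sub_apply, Finsupp.single_apply, if_neg hne.symm,
      Finsupp.coe_finsetSum, Finset.sum_apply, Finset.sum_ite_eq', if_neg hx, sub_zero]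
  obtain ⟨f, hf⟩ := hb D hsum.ge (fun x => if x ∈ T then t x else 0) (by
    refine T.finite_toSet.subset ?_
    intro x hx
    by_contra hxT
    apply hx
    rw [if_neg (by simpa using hxT), map_zero]
    exact zero_le)
  refine ⟨f, fun x hx => ?_, fun x hx hne => ?_⟩
  · have := hf x
    rw [if_pos hx, hDT x hx] at this
    rwa [Valuation.map_sub_swap]
  · have := hf x
    rw [if_neg hx, hDn x hx hne, zero_sub, Valuation.map_neg, exp_zero] at this
    exact this

/-- Weak approximation. -/
theorem exists_approx (T : Finset (LocSym.Pt c)) (N : ℕ) (t : LocSym.Pt c → X.functionField) :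
    ∃ f : X.functionField, ∀ x ∈ T, val c hdim x (f - t x) ≤ exp (-(N : ℤ)) := by
  have := infinite_pt (c := c) hdim
  obtain ⟨x₀, hx₀⟩ := Infinite.exists_notMem_finset T
  obtain ⟨f, hf, -⟩ := exists_strong hdim x₀ T hx₀ N t
  exact ⟨f, hf⟩

end K717.Approx
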