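import Groth.Agent.Etcore.Herbrand
import Groth.Agent.Etcore.ZModFree

/-!
# The group of pairs `(b, a)` with `n b = δ a` modulo those with `a` divisible by `n`
-/

set_option autoImplicit false

namespace K717.KumAlg

open Groth.Agent.Etcore.Herbrand Groth.Agent.Etcore

variable {A B : Type*} [AddCommGroup A] [AddCommGroup B] (δ : A →+ B)

/-- Pairs `(b, a)` with `n b = δ a`. -/
def pairs (n : ℕ) : AddSubgroup (B × A) where
  carrier := {p | n • p.1 = δ p.2}
  zero_mem' := by simp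
  add_mem' := fun {p q} hp hq => by
    change n • (p.1 + q.1) = δ (p.2 + q.2)
    rw [smul_add, map_add, hp, hq]
  neg_mem' := fun {p} hp => by
    change n • (-p.1) = δ (-p.2)
    rw [smul_neg, map_neg, hp]

/-- Pairs `(b, a)` with `n b = δ a` and `a` divisible by `n`. -/
def pairsPow (n : ℕ) : AddSubgroup (B × A) where
  carrier := {p | n • p.1 = δ p.2 ∧ ∃ a, p.2 = n • a}
  zero_mem' := ⟨by simp, 0, by simp⟩
  add_mem' := fun {p q} hp hq => by
    obtain ⟨a, ha⟩ := hp.2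
    obtain ⟨b, hb⟩ := hq.2
    exact ⟨(pairs δ n).add_mem hp.1 hq.1, a + b, by rw [smul_add, ← ha, ← hb]; rfl⟩
  neg_mem' := fun {p} hp => by
    obtain ⟨a, ha⟩ := hp.2
    exact ⟨(pairs δ n).neg_mem hp.1, -a, by rw [smul_neg, ← ha]; rfl⟩

theorem mem_pairs {n : ℕ} {p : B × A} : p ∈ pairs δ n ↔ n • p.1 = δ p.2 := Iff.rfl

theorem mem_pairsPow {n : ℕ} {p : B × A} :
    p ∈ pairsPow δ n ↔ n • p.1 = δ p.2 ∧ ∃ a, p.2 = n • a := Iff.rfl

/-- The quotient. -/
abbrev Kum (n : ℕ) : Type _ := (pairs δ n) ⧸ (pairsPow δ n).addSubgroupOf (pairs δ n)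

/-- class of a pair -/
def mk {n : ℕ} (b : B) (a : A) (h : n • b = δ a) : Kum δ n := QuotientAddGroup.mk ⟨(b, a), h⟩

theorem mk_surjective {n : ℕ} (x : Kum δ n) : ∃ b a, ∃ h : n • b = δ a, mk δ b a h = x := by
  obtain ⟨⟨⟨b, a⟩, h⟩, rfl⟩ := QuotientAddGroup.mk_surjective x
  exact ⟨b, a, h, rfl⟩

theorem mk_eq_zero_iff {n : ℕ} (b : B) (a : A) (h : n • b = δ a) :
    mk δ b a h = 0 ↔ ∃ a', a = n • a' := by
  rw [mk, QuotientAddGroup.eq_zero_iff, AddSubgroup.mem_addSubgroupOf]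
  exact ⟨fun h => h.2, fun h' => ⟨h, h'⟩⟩

theorem mk_sub {n : ℕ} (b b' : B) (a a' : A) (h : n • b = δ a) (h' : n • b' = δ a') :
    mk δ b a h - mk δ b' a' h' = mk δ (b - b') (a - a') (by rw [smul_sub, map_sub, h, h']) := rfl

theorem mk_add {n : ℕ} (b b' : B) (a a' : A) (h : n • b = δ a) (h' : n • b' = δ a') :
    mk δ b a h + mk δ b' a' h' = mk δ (b + b') (a + a') (by rw [smul_add, map_add, h, h']) := rfl

theorem nsmul_mk {n : ℕ} (m : ℕ) (b : B) (a : A) (h : n • b = δ a) :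
    m • mk δ b a h = mk δ (m • b) (m • a) (by rw [smul_comm, h, map_nsmul]) := rfl

/-- The map to the cokernel. -/
def toCok (n : ℕ) (hB : ∀ b : B, n • b = 0 → b = 0) : Kum δ n →+ B ⧸ δ.range :=
  QuotientAddGroup.lift _
    ((QuotientAddGroup.mk' δ.range).comp ((AddMonoidHom.fst B A).comp (pairs δ n).subtype)) (by
      rintro ⟨⟨b, a⟩, h⟩ hp
      rw [AddSubgroup.mem_addSubgroupOf] at hp
      obtain ⟨a', ha'⟩ := hp.2
      have h1 : a = n • a' := ha'
      have h2 : n • b = δ a := h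
      change (QuotientAddGroup.mk b : B ⧸ δ.range) = 0
      rw [QuotientAddGroup.eq_zero_iff]
      refine ⟨a', ?_⟩
      have h3 : n • (b - δ a') = 0 := by
        rw [smul_sub, h2, h1, map_nsmul, sub_self]
      exact (sub_eq_zero.1 (hB _ h3)).symm)

theorem toCok_mk (n : ℕ) (hB : ∀ b : B, n • b = 0 → b = 0) (b : B) (a : A) (h : n • b = δ a) :
    toCok δ n hB (mk δ b a h) = QuotientAddGroup.mk b := rfl

theorem card_kum (n : ℕ) (hB : ∀ b : B, n • b = 0 → b = 0) :
    Nat.card (Kum δ n) = cok n δ.ker * tor n (B ⧸ δ.range) := by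
  have h1 := card_eq_ker_mul_range (toCok δ n hB).toIntLinearMap
  rw [h1]
  congr 1
  · -- the kernel
    let φ : δ.ker →+ LinearMap.ker (toCok δ n hB).toIntLinearMap :=
      { toFun := fun a => ⟨mk δ 0 a.1 (by rw [smul_zero]; exact a.2.symm), rfl⟩
        map_zero' := rfl
        map_add' := fun a b => Subtype.ext (by
          change mk δ 0 _ _ = mk δ 0 _ _ + mk δ 0 _ _
          rw [mk_add]
          congr 1
          rw [add_zero]) }
    refine (cok_eq_of_surjective n φ ?_ ?_).symm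
    · rintro ⟨x, hx⟩
      obtain ⟨b, a, h, rfl⟩ := mk_surjective δ x
      rw [LinearMap.mem_ker] at hx
      change (QuotientAddGroup.mk b : B ⧸ δ.range) = 0 at hx
      rw [QuotientAddGroup.eq_zero_iff] at hx
      obtain ⟨a', ha'⟩ := hx
      have h2 : δ (a - n • a') = 0 := by
        rw [map_sub, ← h, map_nsmul, ha', sub_self]
      refine ⟨⟨a - n • a', h2⟩, Subtype.ext ?_⟩
      change mk δ 0 (a - n • a') _ = mk δ b a h
      rw [← sub_eq_zero, mk_sub, mk_eq_zero_iff]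
      exact ⟨-a', by rw [smul_neg]; abel⟩
    · intro m
      rw [← Subtype.coe_inj]
      change mk δ 0 m.1 _ = 0 ↔ _
      rw [mk_eq_zero_iff]
      constructor
      · rintro ⟨a', ha'⟩
        have h2 : δ a' = 0 := by
          apply hB
          rw [← map_nsmul, ← ha']
          exact m.2
        exact ⟨⟨a', h2⟩, Subtype.ext ha'.symm⟩
      · rintro ⟨m', rfl⟩
        exact ⟨m'.1, rfl⟩
  · -- the image
    refine Nat.card_congr (Equiv.subtypeEquivRight fun y => ?_)
    rw [LinearMap.mem_range, LinearMap.mem_ker, mulN_apply]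
    constructor
    · rintro ⟨x, rfl⟩
      obtain ⟨b, a, h, rfl⟩ := mk_surjective δ x
      change (QuotientAddGroup.mk (n • b) : B ⧸ δ.range) = 0
      rw [QuotientAddGroup.eq_zero_iff]
      exact ⟨a, h.symm⟩
    · intro hy
      obtain ⟨b, rfl⟩ := QuotientAddGroup.mk_surjective y
      change (QuotientAddGroup.mk (n • b) : B ⧸ δ.range) = 0 at hy
      rw [QuotientAddGroup.eq_zero_iff] at hy
      obtain ⟨a, ha⟩ := hy
      exact ⟨mk δ b a ha.symm, rfl⟩

theorem nsmul_eq_zero {n : ℕ} (x : Kum δ n) : n • x = 0 := by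
  obtain ⟨b, a, h, rfl⟩ := mk_surjective δ x
  rw [nsmul_mk, mk_eq_zero_iff]
  exact ⟨a, rfl⟩

theorem card_torsion (n m e : ℕ) (hn : m * e = n) (hBe : ∀ b : B, e • b = 0 → b = 0)
    (h1 : ∀ a : A, e • a = 0 → ∃ a', m • a' = a) (h2 : ∀ a : A, m • a = 0 → ∃ a', e • a' = a) :
    Nat.card {x : Kum δ n // m • x = 0} = Nat.card (Kum δ m) := by
  subst hn
  let θ₀ : pairs δ m →+ Kum δ (m * e) :=
    { toFun := fun p => mk δ p.1.1 (e • p.1.2) (by
        rw [mul_comm, mul_smul, map_nsmul]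
        congr 1
        exact p.2)
      map_zero' := by
        rw [mk_eq_zero_iff]
        exact ⟨0, by simp⟩
      map_add' := fun p q => by
        rw [mk_add]
        congr 1
        exact smul_add _ _ _ }
  let θ : Kum δ m →+ Kum δ (m * e) := QuotientAddGroup.lift _ θ₀ (by
    rintro ⟨⟨b, a⟩, h⟩ hp
    rw [AddSubgroup.mem_addSubgroupOf] at hp
    obtain ⟨a', ha'⟩ := hp.2
    have h1 : a = m • a' := ha'
    subst h1
    change mk δ b (e • (m • a')) _ = 0
    rw [mk_eq_zero_iff]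
    exact ⟨a', by rw [mul_comm, mul_smul]⟩)
  have hθ : ∀ b a h, θ (mk δ b a h) = mk δ b (e • a) (by
      rw [mul_comm, mul_smul, map_nsmul, h]) := fun b a h => rfl
  symm
  refine Nat.card_congr (Equiv.ofBijective (fun x => (⟨θ x, ?_⟩ : {x : Kum δ (m * e) // m • x = 0}))
    ⟨?_, ?_⟩)
  · rw [← map_nsmul, nsmul_eq_zero, map_zero]
  · have hinj : Function.Injective θ := by
      rw [injective_iff_map_eq_zero]
      intro x hx
      obtain ⟨b, a, h, rfl⟩ := mk_surjective δ x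
      rw [hθ, mk_eq_zero_iff] at hx
      obtain ⟨a', ha'⟩ := hx
      rw [mk_eq_zero_iff]
      obtain ⟨a'', ha''⟩ := h1 (a - m • a') (by
        rw [smul_sub, ha', mul_comm m e, mul_smul, sub_self])
      exact ⟨a' + a'', by rw [smul_add, ha'']; abel⟩
    exact fun x y h => hinj (congrArg Subtype.val h)
  · rintro ⟨x, hx⟩
    obtain ⟨b, a, h, rfl⟩ := mk_surjective δ x
    rw [nsmul_mk, mk_eq_zero_iff] at hx
    obtain ⟨a', ha'⟩ := hx
    obtain ⟨a'', ha''⟩ := h2 (a - e • a') (by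
      rw [smul_sub, ha', mul_smul, sub_self])
    have h3 : a = e • (a' + a'') := by rw [smul_add, ha'']; abel
    have h4 : m • b = δ (a' + a'') := by
      have h5 : e • (m • b - δ (a' + a'')) = 0 := by
        rw [smul_sub, ← mul_smul, mul_comm e m, h, h3, map_nsmul, sub_self]
      exact sub_eq_zero.1 (hBe _ h5)
    refine ⟨mk δ b (a' + a'') h4, Subtype.ext ?_⟩
    change θ (mk δ b (a' + a'') h4) = _
    rw [hθ]
    congr 1
    exact h3.symm

theorem nonempty_equiv (n r : ℕ) (hn : n ≠ 0) (hB : ∀ e : ℕ, e ∣ n → ∀ b : B, e • b = 0 → b = 0)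
    (hA : ∀ m e : ℕ, m * e = n → ∀ a : A, e • a = 0 → ∃ a', m • a' = a)
    (hcard : ∀ m : ℕ, m ∣ n → cok m δ.ker * tor m (B ⧸ δ.range) = m ^ r) :
    Nonempty (Kum δ n ≃+ (Fin r → ZMod n)) := by
  have h1 : Nat.card (Kum δ n) = n ^ r := by
    rw [card_kum δ n (hB n dvd_rfl), hcard n dvd_rfl]
  have h2 : Finite (Kum δ n) := Nat.finite_of_card_ne_zero (by rw [h1]; exact pow_ne_zero _ hn)
  refine ZModFree.nonempty_equiv_of_card r n hn (Kum δ n) (fun x => nsmul_eq_zero δ x) fun m hm => ?_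
  obtain ⟨e, rfl⟩ := hm
  rw [card_torsion δ (m * e) m e rfl (hB e (Dvd.intro_left _ rfl)) (hA m e rfl)
    (hA e m (mul_comm _ _)), card_kum δ m (hB m (Dvd.intro _ rfl)), hcard m (Dvd.intro _ rfl)]

end K717.KumAlg
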