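import Groth.Agent.CycB.OrdFrac
import Mathlib.RingTheory.DiscreteValuationRing.Basic
import Mathlib.RingTheory.Valuation.Basic
import Mathlib.Algebra.GroupWithZero.WithZero

/-!
# The order function of a discrete valuation ring in terms of a valuation with values in `ℤᵐ⁰`
-/

set_option autoImplicit false
universe u v

open WithZero

namespace K717.Ord

variable (R : Type u) [CommRing R] [IsDomain R] [IsDiscreteValuationRing R]
  (K : Type v) [Field K] [Algebra R K] [IsFractionRing R K]

omit [IsDomain R] [IsDiscreteValuationRing R] [IsFractionRing R K] in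
theorem v_unit (v : Valuation K ℤᵐ⁰) (h : ∀ f : K, v f ≤ 1 ↔ ∃ a : R, algebraMap R K a = f)
    (a : Rˣ) : v (algebraMap R K a) = 1 := by
  apply le_antisymm ((h _).2 ⟨_, rfl⟩)
  have h1 : v (algebraMap R K (a⁻¹ : Rˣ)) ≤ 1 := (h _).2 ⟨_, rfl⟩
  have h2 : v (algebraMap R K a) * v (algebraMap R K (a⁻¹ : Rˣ)) = 1 := by
    rw [← map_mul, ← map_mul, Units.mul_inv, map_one, map_one]
  calc (1 : ℤᵐ⁰) = v (algebraMap R K a) * v (algebraMap R K (a⁻¹ : Rˣ)) := h2.symm
    _ ≤ v (algebraMap R K a) * 1 := by gcongr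
    _ = _ := mul_one _

theorem v_irreducible (v : Valuation K ℤᵐ⁰) (hv : ∃ t, v t = exp (-1 : ℤ))
    (h : ∀ f : K, v f ≤ 1 ↔ ∃ a : R, algebraMap R K a = f) {π : R} (hπ : Irreducible π) :
    v (algebraMap R K π) = exp (-1 : ℤ) := by
  have hπ0 : algebraMap R K π ≠ 0 := by
    simpa using hπ.ne_zero
  have h0 : v (algebraMap R K π) ≠ 0 := (Valuation.ne_zero_iff _).mpr hπ0
  have h1 : v (algebraMap R K π) ≤ 1 := (h _).2 ⟨_, rfl⟩
  have h2 : v (algebraMap R K π) ≠ 1 := by
    intro h3
    have h4 : v (algebraMap R K π)⁻¹ ≤ 1 := by rw [map_inv₀, h3, inv_one]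
    obtain ⟨a, ha⟩ := (h _).1 h4
    apply hπ.not_isUnit
    refine IsUnit.of_mul_eq_one a ?_
    apply IsFractionRing.injective R K
    rw [map_mul, ha, map_one, mul_inv_cancel₀ hπ0]
  obtain ⟨t, ht⟩ := hv
  have ht0 : t ≠ 0 := by
    rintro rfl
    rw [map_zero] at ht
    exact exp_ne_zero ht.symm
  obtain ⟨n, u, hu⟩ := IsDiscreteValuationRing.exists_units_eq_smul_zpow_of_irreducible hπ ht0
  have h5 : v t = v (algebraMap R K π) ^ n := by
    rw [hu, Units.smul_def, Algebra.smul_def, map_mul, v_unit R K v h u, one_mul, map_zpow₀]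
  rw [ht] at h5
  set a := v (algebraMap R K π) with ha
  have h6 : log a * n = -1 := by
    have h7 := congrArg log h5
    rw [log_exp, log_zpow] at h7
    rw [mul_comm]
    simpa using h7.symm
  have h8 : log a < 0 := by
    rw [lt_iff_le_and_ne]
    constructor
    · rw [log_le_iff_le_exp h0, exp_zero]
      exact h1
    · intro h9
      rw [h9] at h6
      simp at h6
  have h10 : log a = -1 := by
    have : (log a) ∣ 1 := ⟨-n, by linarith⟩
    rcases Int.isUnit_iff.1 (isUnit_of_dvd_one this) with h11 | h11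
    · omega
    · exact h11
  rw [← exp_log h0, h10]

/-- The order function of a discrete valuation ring. -/
theorem ordFrac_eq_neg_log (v : Valuation K ℤᵐ⁰) (hv : ∃ t, v t = exp (-1 : ℤ))
    (h : ∀ f : K, v f ≤ 1 ↔ ∃ a : R, algebraMap R K a = f) (f : K) :
    CycAlg.ordFrac R K f = - log (v f) := by
  by_cases hf : f = 0
  · subst hf
    rw [Groth.Agent.CycB.OrdFrac.ordFrac_zero, map_zero, log_zero, neg_zero]
  obtain ⟨π, hπ⟩ := IsDiscreteValuationRing.exists_irreducible R
  obtain ⟨n, u, hu⟩ := IsDiscreteValuationRing.exists_units_eq_smul_zpow_of_irreducible hπ hf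
  have hπ0 : algebraMap R K π ≠ 0 := by
    simpa using hπ.ne_zero
  have hu0 : algebraMap R K (u : R) ≠ 0 := by
    simp
  have hord : CycAlg.ordFrac R K (algebraMap R K π) = 1 := by
    rw [Groth.Agent.CycB.OrdFrac.ordFrac_algebraMap R K hπ.ne_zero]
    have h1 : Ring.ord R π = 1 := by
      rw [Ring.ord]
      have hmax : (Ideal.span {π}).IsMaximal := by
        rw [← hπ.maximalIdeal_eq]
        infer_instance
      have : IsSimpleModule R (R ⧸ Ideal.span {π}) := by
        rw [isSimpleModule_iff_quot_maximal]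
        exact ⟨Ideal.span {π}, hmax, ⟨LinearEquiv.refl _ _⟩⟩
      exact Module.length_eq_one R _
    rw [h1]
    rfl
  rw [hu, Units.smul_def, Algebra.smul_def,
    Groth.Agent.CycB.OrdFrac.ordFrac_mul R K hu0 (zpow_ne_zero n hπ0),
    Groth.Agent.CycB.OrdFrac.ordFrac_of_isUnit R K u.isUnit,
    Groth.Agent.CycB.OrdFrac.ordFrac_zpow, hord, map_mul, v_unit R K v h u, one_mul, map_zpow₀,
    v_irreducible R K v hv h hπ, log_zpow, log_exp]
  simp

end K717.Ord
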