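import Groth.Agent.LocSym.K717.Value
import Groth.Prelude.Def_W4c1etcurveeff2PicMod
import Mathlib.RingTheory.RootsOfUnity.PrimitiveRoots
import Mathlib.RingTheory.RootsOfUnity.AlgebraicallyClosed

/-!
# The generalised Picard group with a reduced modulus
-/

set_option autoImplicit false
set_option linter.unusedSectionVars false
set_option linter.style.haveILetI false
universe u v

open CategoryTheory AlgebraicGeometry WithZero

noncomputable section

namespace K717.PicMod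

open K717.Crv K717.Basic K717.Approx K717.Sym LocSym W4c1etcurveeff2

variable {k : Type u} [Field k] [IsAlgClosed k] {X : Scheme.{u}} [IsIntegral X]
  {c : X ⟶ Spec (CommRingCat.of k)} [IsProper c] [Smooth c] (hdim : topologicalKrullDim X = 1)

include hdim

theorem isDivOf_one : IsDivOf c 0 (1 : X.functionField) :=
  ⟨one_ne_zero, fun x => by rw [ord_one hdim]; rfl⟩

theorem isDivOf_mul {D E : Pt c →₀ ℤ} {g h : X.functionField} (hg : IsDivOf c D g)
    (hh : IsDivOf c E h) : IsDivOf c (D + E) (g * h) :=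
  ⟨mul_ne_zero hg.1 hh.1, fun x => by
    rw [Finsupp.add_apply, hg.2, hh.2, ord_mul hdim x hg.1 hh.1]⟩

theorem isDivOf_inv {D : Pt c →₀ ℤ} {g : X.functionField} (hg : IsDivOf c D g) :
    IsDivOf c (-D) g⁻¹ :=
  ⟨inv_ne_zero hg.1, fun x => by rw [Finsupp.neg_apply, hg.2, ord_inv hdim]⟩

theorem isDivOf_pow {D : Pt c →₀ ℤ} {g : X.functionField} (hg : IsDivOf c D g) (n : ℕ) :
    IsDivOf c (n • D) (g ^ n) :=
  ⟨pow_ne_zero n hg.1, fun x => by
    rw [Finsupp.smul_apply, hg.2, ord_pow hdim, nsmul_eq_mul]⟩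

theorem exists_isDivOf {g : X.functionField} (hg : g ≠ 0) : ∃ D : Pt c →₀ ℤ, IsDivOf c D g := by
  obtain ⟨D, hD⟩ := exists_divisor (c := c) hdim g
  exact ⟨D, hg, hD⟩

theorem isDivOf_unique {D E : Pt c →₀ ℤ} {g : X.functionField} (hg : IsDivOf c D g)
    (hh : IsDivOf c E g) : D = E := by
  ext x
  rw [hg.2, hh.2]

/-- Functions with the same divisor differ by a constant. -/
theorem exists_const_of_isDivOf {D : Pt c →₀ ℤ} {g h : X.functionField} (hg : IsDivOf c D g)
    (hh : IsDivOf c D h) : ∃ a : kˣ, g = constFun c (a : k) * h := by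
  have h1 : ∀ x : Pt c, val c hdim x (g / h) ≤ 1 := by
    intro x
    rw [val_le_one_iff]
    right
    rw [ord_div hdim x hg.1 hh.1, ← hg.2, ← hh.2, sub_self]
  obtain ⟨a, ha⟩ := exists_const_of_forall (c := c) hdim _ h1
  have ha0 : a ≠ 0 := by
    rintro rfl
    rw [map_zero, div_eq_zero_iff] at ha
    rcases ha with ha | ha
    · exact hg.1 ha
    · exact hh.1 ha
  refine ⟨Units.mk0 a ha0, ?_⟩
  rw [Units.val_mk0, ← ha, div_mul_cancel₀ _ hh.1]

theorem mem_principal_iff {D : Pt c →₀ ℤ} :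
    D ∈ principal c ↔ ∃ g : X.functionField, IsDivOf c D g := by
  constructor
  · intro h
    refine AddSubgroup.closure_induction (p := fun D _ => ∃ g : X.functionField, IsDivOf c D g)
      (fun _ h => h) ⟨1, isDivOf_one hdim⟩ ?_ ?_ h
    · rintro D E - - ⟨g, hg⟩ ⟨h, hh⟩
      exact ⟨g * h, isDivOf_mul hdim hg hh⟩
    · rintro D - ⟨g, hg⟩
      exact ⟨g⁻¹, isDivOf_inv hdim hg⟩
  · intro h
    exact AddSubgroup.subset_closure h

theorem cong1_iff (m : Pt c →₀ ℕ) (g : (X.functionField)ˣ) :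
    Cong1 m (g : X.functionField) ↔ ∀ x ∈ m.support, g ∈ U hdim x (m x) :=
  forall₂_congr fun _ hx => (mem_U_iff_cong1At hdim hx g).symm

theorem mem_principalMod_iff {m : Pt c →₀ ℕ} {D : divAway c m} :
    D ∈ principalMod c m ↔ ∃ g : X.functionField, IsDivOf c (D : Pt c →₀ ℤ) g ∧ Cong1 m g := by
  constructor
  · intro h
    refine AddSubgroup.closure_induction
      (p := fun (D : divAway c m) _ => ∃ g : X.functionField, IsDivOf c (D : Pt c →₀ ℤ) g ∧ Cong1 m g)
      (fun _ h => h) ⟨1, isDivOf_one hdim, fun _ _ => Or.inl rfl⟩ ?_ ?_ h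
    · rintro D E - - ⟨g, hg, hg'⟩ ⟨h, hh, hh'⟩
      refine ⟨g * h, isDivOf_mul hdim hg hh, ?_⟩
      have h1 := (cong1_iff hdim m (Units.mk0 g hg.1)).1 hg'
      have h2 := (cong1_iff hdim m (Units.mk0 h hh.1)).1 hh'
      exact (cong1_iff hdim m (Units.mk0 g hg.1 * Units.mk0 h hh.1)).2
        fun x hx => mul_mem (h1 x hx) (h2 x hx)
    · rintro D - ⟨g, hg, hg'⟩
      refine ⟨g⁻¹, isDivOf_inv hdim hg, ?_⟩
      have h1 := (cong1_iff hdim m (Units.mk0 g hg.1)).1 hg'
      exact (cong1_iff hdim m (Units.mk0 g hg.1)⁻¹).2 fun x hx => inv_mem (h1 x hx)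
  · intro h
    exact AddSubgroup.subset_closure h

theorem picModToPic_surjective (m : Pt c →₀ ℕ) : Function.Surjective (picModToPic c m) := by
  intro y
  obtain ⟨D, rfl⟩ := QuotientAddGroup.mk_surjective y
  have h0 : ∀ x : Pt c, ∃ g : (X.functionField)ˣ, x.ord (g : X.functionField) = D x := by
    intro x
    obtain ⟨g, hg0, hg⟩ := exists_ord_eq hdim x (D x)
    exact ⟨Units.mk0 g hg0, hg⟩
  choose t ht using h0
  obtain ⟨g, hg⟩ := exists_unit_approx hdim m.support (fun _ => 0) t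
  obtain ⟨E, hE⟩ := exists_isDivOf (c := c) hdim g.ne_zero
  have h1 : ∀ x ∈ m.support, (D - E) x = 0 := by
    intro x hx
    have h2 := ord_eq_zero_of_mem_U hdim (hg x hx)
    rw [Units.val_mul, Units.val_inv_eq_inv_val, ord_mul hdim x g.ne_zero (inv_ne_zero (t x).ne_zero),
      ord_inv hdim, ht] at h2
    rw [Finsupp.sub_apply, hE.2]
    omega
  refine ⟨QuotientAddGroup.mk (⟨D - E, h1⟩ : divAway c m), ?_⟩
  change (QuotientAddGroup.mk (D - E) : Pic c) = QuotientAddGroup.mk D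
  rw [QuotientAddGroup.eq, mem_principal_iff hdim]
  refine ⟨g, ?_⟩
  have : -(D - E) + D = E := by abel
  rw [this]
  exact hE

theorem picModToPic_mk_eq_zero_iff {m : Pt c →₀ ℕ} (D : divAway c m) :
    picModToPic c m (QuotientAddGroup.mk D) = 0 ↔ ∃ g : X.functionField, IsDivOf c (D : Pt c →₀ ℤ) g := by
  change (QuotientAddGroup.mk (D : Pt c →₀ ℤ) : Pic c) = 0 ↔ _
  rw [QuotientAddGroup.eq_zero_iff, mem_principal_iff hdim]

theorem mk_eq_zero_iff {m : Pt c →₀ ℕ} (D : divAway c m) :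
    (QuotientAddGroup.mk D : PicMod c m) = 0 ↔
      ∃ g : X.functionField, IsDivOf c (D : Pt c →₀ ℤ) g ∧ Cong1 m g := by
  rw [QuotientAddGroup.eq_zero_iff, mem_principalMod_iff hdim]

theorem exists_value_of_isDivOf {m : Pt c →₀ ℕ} {D : divAway c m} {g : X.functionField}
    (hg : IsDivOf c (D : Pt c →₀ ℤ) g) :
    ∃ v : Pt c → kˣ, ∀ x ∈ m.support, HasValueAt x g (v x : k) := by
  classical
  have h0 : ∀ x : Pt c, ∃ a : kˣ, x ∈ m.support → HasValueAt x g (a : k) := by
    intro x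
    by_cases hx : x ∈ m.support
    · obtain ⟨a, ha⟩ := Value.exists_unit_value hdim x hg.1 (by rw [← hg.2]; exact D.2 x hx)
      exact ⟨a, fun _ => ha⟩
    · exact ⟨1, fun h => absurd h hx⟩
  choose v hv using h0
  exact ⟨v, hv⟩

/-- A class of `Pic_m` with a representative `div g` vanishes iff the values of `g` are equal. -/
theorem mk_eq_zero_iff_of_isDivOf {m : Pt c →₀ ℕ} (hm : ∀ x : Pt c, m x ≤ 1) {D : divAway c m}
    {g : X.functionField} (hg : IsDivOf c (D : Pt c →₀ ℤ) g) {v : Pt c → kˣ}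
    (hv : ∀ x ∈ m.support, HasValueAt x g (v x : k)) :
    (QuotientAddGroup.mk D : PicMod c m) = 0 ↔ ∃ a : kˣ, ∀ x ∈ m.support, v x = a := by
  rw [mk_eq_zero_iff hdim]
  constructor
  · rintro ⟨h, hh, hc⟩
    obtain ⟨a, ha⟩ := exists_const_of_isDivOf hdim hg hh
    refine ⟨a, fun x hx => ?_⟩
    have h1 := (Value.cong1At_iff_of_le_one hdim hx (hm x) h).1 (hc x hx)
    have h2 := Value.mul hdim (Value.const hdim x (a : k)) h1
    rw [← ha, mul_one] at h2
    exact Units.ext (value_unique hdim x g (hv x hx) h2)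
  · rintro ⟨a, ha⟩
    refine ⟨constFun c (a⁻¹ : kˣ) * g, ?_, fun x hx => ?_⟩
    · refine ⟨mul_ne_zero (by simp) hg.1, fun x => ?_⟩
      rw [ord_mul hdim x (by simp) hg.1, ord_const hdim, zero_add, hg.2]
    · rw [Value.cong1At_iff_of_le_one hdim hx (hm x)]
      have h1 := Value.mul hdim (Value.const hdim x ((a⁻¹ : kˣ) : k)) (hv x hx)
      rwa [ha x hx, ← Units.val_mul, inv_mul_cancel, Units.val_one] at h1

/-- Every family of values is realised. -/
theorem exists_isDivOf_value (m : Pt c →₀ ℕ) (v : Pt c → kˣ) :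
    ∃ (g : X.functionField) (D : divAway c m), IsDivOf c (D : Pt c →₀ ℤ) g ∧
      ∀ x ∈ m.support, HasValueAt x g (v x : k) := by
  obtain ⟨g, hg⟩ := Value.exists_interp hdim m.support v
  obtain ⟨D, hD⟩ := exists_isDivOf (c := c) hdim g.ne_zero
  refine ⟨g, ⟨D, fun x hx => ?_⟩, hD, hg⟩
  rw [hD.2]
  exact Value.ord_eq_zero hdim (hg x hx) (v x).ne_zero

theorem exists_pow_eq (n : ℕ) (hn : 1 ≤ n) (a : kˣ) : ∃ b : kˣ, b ^ n = a := by
  obtain ⟨b, hb⟩ := IsAlgClosed.exists_pow_nat_eq (a : k) hn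
  have hb0 : b ≠ 0 := by
    rintro rfl
    rw [zero_pow (by omega)] at hb
    exact a.ne_zero hb.symm
  exact ⟨Units.mk0 b hb0, Units.ext (by simpa using hb)⟩

/-- Torsion classes lift. -/
theorem exists_torsion_lift {m : Pt c →₀ ℕ} (hm : ∀ x : Pt c, m x ≤ 1) (n : ℕ) (hn : 1 ≤ n)
    (y : Pic c) (hy : n • y = 0) : ∃ x : PicMod c m, n • x = 0 ∧ picModToPic c m x = y := by
  obtain ⟨x, hx⟩ := picModToPic_surjective hdim m y
  have h1 : picModToPic c m (n • x) = 0 := by rw [map_nsmul, hx, hy]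
  obtain ⟨D, hD⟩ := QuotientAddGroup.mk_surjective (n • x)
  rw [← hD, picModToPic_mk_eq_zero_iff hdim] at h1
  obtain ⟨g, hg⟩ := h1
  obtain ⟨v, hv⟩ := exists_value_of_isDivOf hdim hg
  choose w hw using fun x => exists_pow_eq hdim n hn (v x)
  obtain ⟨g', E, hE, hg'⟩ := exists_isDivOf_value hdim m w
  refine ⟨x - QuotientAddGroup.mk E, ?_, ?_⟩
  · rw [nsmul_sub, ← hD]
    have h2 : n • (QuotientAddGroup.mk E : PicMod c m) = QuotientAddGroup.mk (n • E) := rfl
    rw [h2, ← QuotientAddGroup.mk_sub]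
    refine (mk_eq_zero_iff_of_isDivOf hdim hm (g := g * (g' ^ n)⁻¹) (v := fun x => v x / w x ^ n)
      ?_ ?_).2 ⟨1, fun x _ => ?_⟩
    · have := isDivOf_mul hdim hg (isDivOf_inv hdim (isDivOf_pow hdim hE n))
      rw [← sub_eq_add_neg] at this
      exact this
    · intro x hx
      have h3 := Value.pow hdim (hg' x hx) n
      rw [← Units.val_pow_eq_pow_val] at h3
      have h4 := Value.div hdim (hv x hx) h3
      rwa [div_eq_mul_inv] at h4
    · rw [hw, div_self']
  · rw [map_sub, hx, (picModToPic_mk_eq_zero_iff hdim E).2 ⟨g', hE⟩, sub_zero]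

end K717.PicMod
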