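import Groth.Agent.LocSym.K717.PicMod

/-!
# Counting the torsion in the kernel of `Pic_m → Pic` for a reduced modulus
-/

set_option autoImplicit false
set_option linter.unusedSectionVars false
set_option linter.style.haveILetI false
universe u v

open CategoryTheory AlgebraicGeometry WithZero

noncomputable section

namespace K717.PicMod

open K717.Crv K717.Basic K717.Approx K717.Sym LocSym W4c1etcurveeff2

variable {k : Type u} [Field k] [IsAlgClosed k] {X : Scheme.{u}} [IsIntegral X]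
  {c : X ⟶ Spec (CommRingCat.of k)} [IsProper c] [Smooth c] (hdim : topologicalKrullDim X = 1)

include hdim

theorem card_ker {m : Pt c →₀ ℕ} (hm : ∀ x : Pt c, m x ≤ 1) (n : ℕ) (hn : 1 ≤ n)
    (hnk : (n : k) ≠ 0) :
    Nat.card {x : PicMod c m // n • x = 0 ∧ picModToPic c m x = 0} = n ^ (m.support.card - 1) := by
  classical
  have hn0 : NeZero n := ⟨by omega⟩
  have hnk' : NeZero (n : k) := ⟨hnk⟩
  rcases m.support.eq_empty_or_nonempty with hS | ⟨x₀, hx₀⟩
  · rw [hS, Finset.card_empty, pow_zero, Nat.card_eq_one_iff_exists]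
    refine ⟨⟨0, by simp, by simp⟩, ?_⟩
    rintro ⟨x, hx, hx'⟩
    apply Subtype.ext
    obtain ⟨D, rfl⟩ := QuotientAddGroup.mk_surjective x
    obtain ⟨g, hg⟩ := (picModToPic_mk_eq_zero_iff hdim D).1 hx'
    exact (mk_eq_zero_iff_of_isDivOf hdim hm hg (v := fun _ => 1) (by simp [hS])).2 ⟨1, by simp⟩
  · have hcard : Nat.card ({x // x ∈ m.support.erase x₀} → rootsOfUnity n k) =
        n ^ (m.support.card - 1) := by
      rw [Nat.card_fun, HasEnoughRootsOfUnity.natCard_rootsOfUnity, Nat.card_eq_fintype_card,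
        Fintype.card_coe, Finset.card_erase_of_mem hx₀]
    rw [← hcard]
    symm
    let V (ζ : {x // x ∈ m.support.erase x₀} → rootsOfUnity n k) (x : Pt c) : kˣ :=
      if hx : x ∈ m.support.erase x₀ then (ζ ⟨x, hx⟩ : kˣ) else 1
    have hV0 : ∀ ζ, V ζ x₀ = 1 := fun ζ => dif_neg (by simp)
    have hVn : ∀ ζ x, V ζ x ^ n = 1 := by
      intro ζ x
      dsimp only [V]
      split_ifs with hx
      · exact (mem_rootsOfUnity n _).1 (ζ ⟨x, hx⟩).2
      · exact one_pow n
    have hV : ∀ ζ (x : Pt c) (hx : x ∈ m.support.erase x₀), V ζ x = (ζ ⟨x, hx⟩ : kˣ) :=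
      fun ζ x hx => dif_pos hx
    choose g D hg hv using fun ζ => exists_isDivOf_value hdim m (V ζ)
    have hpow : ∀ (g : X.functionField) (D : divAway c m) (v : Pt c → kˣ),
        IsDivOf c (D : Pt c →₀ ℤ) g → (∀ x ∈ m.support, HasValueAt x g (v x : k)) →
        (n • (QuotientAddGroup.mk D : PicMod c m) = 0 ↔ ∃ a : kˣ, ∀ x ∈ m.support, v x ^ n = a) := by
      intro g D v hg hv
      have h2 : n • (QuotientAddGroup.mk D : PicMod c m) = QuotientAddGroup.mk (n • D) := rfl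
      rw [h2]
      refine mk_eq_zero_iff_of_isDivOf hdim hm (D := n • D) (g := g ^ n) (v := fun x => v x ^ n)
        (isDivOf_pow hdim hg n) fun x hx => ?_
      rw [Units.val_pow_eq_pow_val]
      exact Value.pow hdim (hv x hx) n
    have hsub : ∀ (g g' : X.functionField) (D D' : divAway c m) (v v' : Pt c → kˣ),
        IsDivOf c (D : Pt c →₀ ℤ) g → (∀ x ∈ m.support, HasValueAt x g (v x : k)) →
        IsDivOf c (D' : Pt c →₀ ℤ) g' → (∀ x ∈ m.support, HasValueAt x g' (v' x : k)) →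
        ((QuotientAddGroup.mk D : PicMod c m) = QuotientAddGroup.mk D' ↔
          ∃ a : kˣ, ∀ x ∈ m.support, v x / v' x = a) := by
      intro g g' D D' v v' hg hv hg' hv'
      rw [← sub_eq_zero, ← QuotientAddGroup.mk_sub]
      refine mk_eq_zero_iff_of_isDivOf hdim hm (D := D - D') (g := g / g') ?_ fun x hx =>
        Value.div hdim (hv x hx) (hv' x hx)
      have := isDivOf_mul hdim hg (isDivOf_inv hdim hg')
      rw [← sub_eq_add_neg, ← div_eq_mul_inv] at this
      exact this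
    refine Nat.card_congr (Equiv.ofBijective (fun ζ => ⟨QuotientAddGroup.mk (D ζ), ?_, ?_⟩) ⟨?_, ?_⟩)
    · exact (hpow _ _ _ (hg ζ) (hv ζ)).2 ⟨1, fun x _ => hVn ζ x⟩
    · exact (picModToPic_mk_eq_zero_iff hdim _).2 ⟨g ζ, hg ζ⟩
    · intro ζ ζ' h
      have h1 : (QuotientAddGroup.mk (D ζ) : PicMod c m) = QuotientAddGroup.mk (D ζ') :=
        congrArg Subtype.val h
      obtain ⟨a, ha⟩ := (hsub _ _ _ _ _ _ (hg ζ) (hv ζ) (hg ζ') (hv ζ')).1 h1
      have ha1 : a = 1 := by rw [← ha x₀ hx₀, hV0, hV0, div_one]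
      funext ⟨x, hx⟩
      apply Subtype.ext
      rw [← hV ζ x hx, ← hV ζ' x hx]
      have := ha x (Finset.mem_of_mem_erase hx)
      rwa [ha1, div_eq_one] at this
    · rintro ⟨y, hy, hy'⟩
      obtain ⟨E, rfl⟩ := QuotientAddGroup.mk_surjective y
      obtain ⟨h, hh⟩ := (picModToPic_mk_eq_zero_iff hdim E).1 hy'
      obtain ⟨v, hv'⟩ := exists_value_of_isDivOf hdim hh
      obtain ⟨a, ha⟩ := (hpow _ _ _ hh hv').1 hy
      obtain ⟨ζ, hζ⟩ : ∃ ζ : {x // x ∈ m.support.erase x₀} → rootsOfUnity n k,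
          ∀ (x : Pt c) (hx : x ∈ m.support.erase x₀), (ζ ⟨x, hx⟩ : kˣ) = v x / v x₀ :=
        ⟨fun x => ⟨v x / v x₀, by
          rw [mem_rootsOfUnity, div_pow, ha x₀ hx₀, ha x (Finset.mem_of_mem_erase x.2), div_self']⟩,
          fun _ _ => rfl⟩
      refine ⟨ζ, Subtype.ext ?_⟩
      refine (hsub _ _ _ _ _ _ (hg ζ) (hv ζ) hh hv').2 ⟨(v x₀)⁻¹, fun x hx => ?_⟩
      by_cases hxe : x ∈ m.support.erase x₀
      · rw [hV ζ x hxe, hζ, div_div, mul_comm, ← div_div, div_self', one_div]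
      · have : x = x₀ := by
          by_contra hne
          exact hxe (Finset.mem_erase.2 ⟨hne, hx⟩)
        rw [this, hV0, one_div]

end K717.PicMod
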