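import Groth.Agent.Etcore.CurveDiv
import Groth.Agent.S0227
import Groth.Agent.CurvesA.CurveDvr
import Groth.Prelude.Def_W4c1etcurveeff2PicMod
import Groth.Agent.LocSym.K717.KumAlg

/-!
# Divisors on the rational points of a smooth curve (not necessarily proper) and the cohomology of `G_m`
-/

set_option autoImplicit false
set_option linter.unusedSectionVars false
set_option linter.style.haveILetI false
universe u

open CategoryTheory CategoryTheory.Limits AlgebraicGeometry Opposite TopologicalSpace

noncomputable section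

namespace K717.PtDiv

open LocSym W4c1etcurveeff2 Groth.Agent Groth.Agent.CurvesA Groth.Agent.CurvesA.DivPoint
  Groth.Agent.CurvesA.RatSec Groth.Agent.CurvesA.OrdMap

variable {k : Type u} [Field k] [IsAlgClosed k] {X : Scheme.{u}} [IsIntegral X]
  (c : X ⟶ Spec (CommRingCat.of k)) [LocallyOfFiniteType c] [QuasiCompact c] [Smooth c]
  (hdim : topologicalKrullDim X = 1)

include c hdim in
theorem isDed : IsDed X := fun x hx =>
  CurvesA.CurveDvr.isDiscreteValuationRing_stalk c hdim.le x hx

include c in
theorem isLocallyNoetherian : IsLocallyNoetherian X := LocallyOfFiniteType.isLocallyNoetherian c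

include c in
theorem compactSpace : CompactSpace X := (quasiCompact_iff_compactSpace (f := c)).mp inferInstance

include hdim in
theorem not_isClosed_generic : ¬ IsClosed ({genericPoint X} : Set X) := by
  intro h
  obtain ⟨x, hx⟩ := CurvesA.CurveDvr.exists_ne_genericPoint hdim
  apply hx
  have h1 : x ∈ closure ({genericPoint X} : Set X) := by
    rw [genericPoint_closure]
    trivial
  rw [h.closure_eq] at h1
  exact h1

/-- The rational points are the non-generic points. -/
def ptEquiv : Pt c ≃ {x : X // x ≠ genericPoint X} :=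
  (pointEquivClosedPoint c).trans
    (Equiv.subtypeEquivRight fun x => ⟨fun h hx => not_isClosed_generic hdim (hx ▸ h),
      fun h => S0227.isClosed_of_ne X hdim x h⟩)

theorem ptEquiv_apply (x : Pt c) : (ptEquiv c hdim x).1 = x.pt := rfl

theorem ptEquiv_symm_pt (x : {x : X // x ≠ genericPoint X}) :
    ((ptEquiv c hdim).symm x).pt = x.1 :=
  congrArg Subtype.val ((ptEquiv c hdim).apply_symm_apply x)

theorem ordFrac_eq {R : Type u} [CommRing R] [IsDomain R] [IsDiscreteValuationRing R]
    {K : Type u} [Field K] [Algebra R K] [IsFractionRing R K] (f : Kˣ) :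
    CycAlg.ordFrac R K (f : K) = DvrExt.ordU R K (Additive.ofMul f) := by
  have h1 : IsNoetherianRing R ∧ Ring.KrullDimLE 1 R ∧ Nontrivial R ∧ IsFractionRing R K :=
    ⟨inferInstance, inferInstance, inferInstance, inferInstance⟩
  rw [CycAlg.ordFrac, dif_pos h1]
  change _ = WithZero.log (Ring.ordFrac R (f : K))
  have h2 : Ring.ordFrac R (f : K) ≠ 0 := by simp
  obtain ⟨a, ha⟩ := WithZero.ne_zero_iff_exists.1 h2
  rw [← ha]
  rfl

/-- The divisor of a rational function on the rational points. -/
def dv : Additive (X.functionField)ˣ →+ (Pt c →₀ ℤ) :=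
  haveI := isLocallyNoetherian c
  haveI := compactSpace c
  (Finsupp.domCongr (ptEquiv c hdim).symm).toAddMonoidHom.comp (div (isDed c hdim))

theorem dv_apply (f : Additive (X.functionField)ˣ) (x : Pt c) :
    dv c hdim f x = x.ord ((f.toMul : (X.functionField)ˣ) : X.functionField) := by
  have := isLocallyNoetherian c
  have := compactSpace c
  have h1 : dv c hdim f x = div (isDed c hdim) f (ptEquiv c hdim x) := rfl
  rw [h1, div_apply]
  have := isDed c hdim (ptEquiv c hdim x).1 (ptEquiv c hdim x).2
  exact (ordFrac_eq (R := X.presheaf.stalk (ptEquiv c hdim x).1) f.toMul).symm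

theorem principal_eq : principal c = (dv c hdim).range := by
  apply le_antisymm
  · refine (AddSubgroup.closure_le _).2 ?_
    rintro D ⟨g, hg0, hg⟩
    refine ⟨Additive.ofMul (Units.mk0 g hg0), ?_⟩
    ext x
    rw [dv_apply, hg]
    rfl
  · rintro _ ⟨f, rfl⟩
    refine AddSubgroup.subset_closure ⟨(f.toMul : (X.functionField)ˣ), Units.ne_zero _, fun x => ?_⟩
    rw [dv_apply]

theorem kummerPairs_eq (n : ℕ) : kummerPairs c n = KumAlg.pairs (dv c hdim) n := by
  have h : {p : (Pt c →₀ ℤ) × Additive (X.functionField)ˣ |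
      ∀ x : Pt c, (n : ℤ) * p.1 x = x.ord ((p.2).toMul : X.functionField)} =
      (KumAlg.pairs (dv c hdim) n : Set _) := by
    ext p
    rw [SetLike.mem_coe, KumAlg.mem_pairs, Finsupp.ext_iff]
    refine forall_congr' fun x => ?_
    rw [dv_apply, Finsupp.smul_apply, nsmul_eq_mul]
  rw [kummerPairs, h, AddSubgroup.closure_eq]

theorem kummerPairsPow_eq (n : ℕ) : kummerPairsPow c n = KumAlg.pairsPow (dv c hdim) n := by
  have h : {p : (Pt c →₀ ℤ) × Additive (X.functionField)ˣ |
      (∀ x : Pt c, (n : ℤ) * p.1 x = x.ord ((p.2).toMul : X.functionField)) ∧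
        ∃ h : (X.functionField)ˣ, (p.2).toMul = h ^ n} =
      (KumAlg.pairsPow (dv c hdim) n : Set _) := by
    ext p
    rw [SetLike.mem_coe, KumAlg.mem_pairsPow, Finsupp.ext_iff]
    refine and_congr (forall_congr' fun x => ?_) Iff.rfl
    rw [dv_apply, Finsupp.smul_apply, nsmul_eq_mul]
  rw [kummerPairsPow, h, AddSubgroup.closure_eq]

theorem nonempty_kummerPairGrp_equiv (n : ℕ) :
    Nonempty (KummerPairGrp c n ≃+ KumAlg.Kum (dv c hdim) n) := by
  have h1 := kummerPairs_eq c hdim n
  have h2 := kummerPairsPow_eq c hdim n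
  unfold KummerPairGrp KumAlg.Kum
  rw [h1, h2]
  exact ⟨AddEquiv.refl _⟩

open Etcore Etcore.Herbrand

/-- The kernel of `dv` is the kernel of `div`. -/
theorem tor_cok_ker (n : ℕ) : letI := isLocallyNoetherian c; letI := compactSpace c;
    cok n (dv c hdim).ker = cok n (EtCoh.H X (EtCoh.Gm X) 0) := by
  letI := isLocallyNoetherian c
  letI := compactSpace c
  have h : (dv c hdim).ker = (div (isDed c hdim)).ker := by
    ext f
    rw [AddMonoidHom.mem_ker, AddMonoidHom.mem_ker]
    exact map_eq_zero_iff _ (Finsupp.domCongr (ptEquiv c hdim).symm).injective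
  rw [h]
  exact (cok_congr n (CurveDiv.kerDiv (isDed c hdim))).symm

theorem tor_cok (n : ℕ) (hH : Subsingleton (EtCoh.H X (jGm X) 1)) :
    tor n ((Pt c →₀ ℤ) ⧸ (dv c hdim).range) = tor n (EtCoh.H X (EtCoh.Gm X) 1) := by
  letI := isLocallyNoetherian c
  letI := compactSpace c
  rw [← tor_congr n (CurveDiv.cokerDiv (isDed c hdim) hH)]
  refine (tor_congr n (QuotientAddGroup.congr _ _ (Finsupp.domCongr (ptEquiv c hdim).symm) ?_)).symm
  ext D
  constructor
  · rintro ⟨_, ⟨f, rfl⟩, rfl⟩
    exact ⟨f, rfl⟩
  · rintro ⟨f, rfl⟩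
    exact ⟨_, ⟨f, rfl⟩, rfl⟩

end K717.PtDiv
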