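import Groth.Agent.LocSym.K717.PicModCard
import Groth.Agent.LocSym.K717.PtDiv
import Groth.Agent.Etcore.CurveH1U
import Groth.Agent.S0231

/-!
# `Pic_m(X)[n] ≃ (ℤ/n)^(2g + s - 1)` for a reduced modulus with `s` points
-/

set_option autoImplicit false
set_option linter.unusedSectionVars false
set_option linter.style.haveILetI false
universe u

open CategoryTheory CategoryTheory.Limits AlgebraicGeometry Opposite TopologicalSpace

noncomputable section

namespace K717.PicTors

open K717.PicMod LocSym W4c1etcurveeff2 Groth.Agent Groth.Agent.Etcore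

variable {k : Type u} [Field k] [IsAlgClosed k] {X : Scheme.{u}} [IsIntegral X]
  (c : X ⟶ Spec (CommRingCat.of k)) [IsProper c] [Smooth c] (hdim : topologicalKrullDim X = 1)

/-- the genus -/
def gen : ℕ := letI : X.Over (Spec (CommRingCat.of k)) := ⟨c⟩
  Module.finrank k (Coh.HH X (Coh.structureModule X) 1)

include hdim in
theorem card_pic_torsion (n : ℕ) (hnk : (n : k) ≠ 0) :
    Nat.card {y : Pic c // n • y = 0} = n ^ (2 * gen c) := by
  letI : X.Over (Spec (CommRingCat.of k)) := ⟨c⟩
  have hX : Curve.IsSmoothProperCurve k X (X ↘ Spec (CommRingCat.of k)) :=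
    ⟨inferInstanceAs (IsProper c), inferInstanceAs (Smooth c), inferInstance, hdim⟩
  have h1 := CurveH1U.tor_H1Gm X hX n hnk
  rw [← PtDiv.tor_cok c hdim n (S0231.result k X c hdim 1 le_rfl), Herbrand.tor_eq] at h1
  have h2 := PtDiv.principal_eq c hdim
  unfold Pic
  rw [h2]
  exact h1

include hdim in
theorem card_torsion {m : Pt c →₀ ℕ} (hm : ∀ x : Pt c, m x ≤ 1) (n : ℕ) (hnk : (n : k) ≠ 0) :
    Nat.card {x : PicMod c m // n • x = 0} = n ^ (2 * gen c + (m.support.card - 1)) := by
  have hn : 1 ≤ n := Nat.pos_of_ne_zero (by rintro rfl; simp at hnk)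
  have hk := card_ker hdim hm n hn hnk
  have hp := card_pic_torsion c hdim n hnk
  let φ : LinearMap.ker (Herbrand.mulN n (PicMod c m)) →ₗ[ℤ] LinearMap.ker (Herbrand.mulN n (Pic c)) :=
    Herbrand.torMap n (picModToPic c m).toIntLinearMap
  have h1 := Herbrand.card_eq_ker_mul_range φ
  have h2 : Nat.card (LinearMap.ker φ) = n ^ (m.support.card - 1) := by
    rw [← hk]
    refine Nat.card_congr
      { toFun := fun x => ⟨x.1.1, by
          have h3 := x.1.2
          rw [LinearMap.mem_ker, Herbrand.mulN_apply] at h3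
          exact h3, congrArg Subtype.val x.2⟩
        invFun := fun x => ⟨⟨x.1, by
          rw [LinearMap.mem_ker, Herbrand.mulN_apply]
          exact x.2.1⟩, Subtype.ext x.2.2⟩
        left_inv := fun _ => rfl
        right_inv := fun _ => rfl }
  have h3 : Nat.card (LinearMap.range φ) = n ^ (2 * gen c) := by
    rw [← hp, ← Herbrand.tor_eq]
    have h4 : LinearMap.range φ = ⊤ := by
      rw [LinearMap.range_eq_top]
      rintro ⟨y, hy⟩
      rw [LinearMap.mem_ker, Herbrand.mulN_apply] at hy
      obtain ⟨x, hx, hxy⟩ := exists_torsion_lift hdim hm n hn y hy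
      exact ⟨⟨x, by rw [LinearMap.mem_ker, Herbrand.mulN_apply]; exact hx⟩, Subtype.ext hxy⟩
    rw [h4]
    exact Nat.card_congr (Submodule.topEquiv (R := ℤ)).toEquiv
  rw [← Herbrand.tor_eq]
  change Nat.card (LinearMap.ker (Herbrand.mulN n (PicMod c m))) = _
  rw [h1, h2, h3, ← pow_add, add_comm]

include hdim in
/-- The torsion of the generalised Picard group. -/
theorem nonempty_equiv {m : Pt c →₀ ℕ} (hm : ∀ x : Pt c, m x ≤ 1) (n : ℕ) (hnk : (n : k) ≠ 0) :
    Nonempty ((nsmulAddMonoidHom (α := PicMod c m) n).ker ≃+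
      (Fin (2 * gen c + (m.support.card - 1)) → ZMod n)) := by
  have hn0 : n ≠ 0 := by rintro rfl; simp at hnk
  have hdvd : ∀ m, m ∣ n → (m : k) ≠ 0 := by
    rintro m ⟨e, rfl⟩ h
    apply hnk
    rw [Nat.cast_mul, h, zero_mul]
  have hmem : ∀ x : PicMod c m, x ∈ (nsmulAddMonoidHom (α := PicMod c m) n).ker ↔ n • x = 0 :=
    fun x => Iff.rfl
  have hfin : Finite (nsmulAddMonoidHom (α := PicMod c m) n).ker := by
    apply Nat.finite_of_card_ne_zero
    have h1 : Nat.card (nsmulAddMonoidHom (α := PicMod c m) n).ker =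
      n ^ (2 * gen c + (m.support.card - 1)) := card_torsion c hdim hm n hnk
    rw [h1]
    exact pow_ne_zero _ hn0
  refine ZModFree.nonempty_equiv_of_card _ n hn0 _ (fun x => Subtype.ext ((hmem x.1).1 x.2))
    fun d hd => ?_
  rw [← card_torsion c hdim hm d (hdvd d hd)]
  refine Nat.card_congr
    { toFun := fun x => ⟨x.1.1, congrArg Subtype.val x.2⟩
      invFun := fun x => ⟨⟨x.1, ?_⟩, Subtype.ext x.2⟩
      left_inv := fun _ => rfl
      right_inv := fun _ => rfl }
  obtain ⟨e, rfl⟩ := hd
  rw [hmem, mul_comm, mul_smul, x.2, smul_zero]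

end K717.PicTors
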