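import Groth.Agent.Sga4B.CurveOpen
import Groth.Agent.Etcore.MuTorsion215
import Groth.Agent.Etcore.MuCard
import Groth.Agent.Etcore.CurveH1U
import Groth.Agent.Sga4h.EtaleRes2
import Groth.Agent.S0648

/-!
# `H¹(X, j_! μ_n)` for the complement of finitely many points in a smooth proper curve
-/

set_option autoImplicit false
set_option linter.unusedSectionVars false
set_option linter.style.haveILetI false
universe u

open CategoryTheory CategoryTheory.Limits AlgebraicGeometry Opposite TopologicalSpace Abelian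

noncomputable section

namespace K717.Shriek

open Groth.Agent Groth.Agent.Etcore

section general

variable {U X : Scheme.{u}} (j : U ⟶ X) [Etale j] [EtShriek.JCont j]

instance : PreservesFiniteLimits (EtShriek.extZero j) := S0648.result j

instance : PreservesColimitsOfSize.{0, 0} (EtShriek.extZero j) :=
  (EtShriek.extZeroAdj j).leftAdjoint_preservesColimits

instance : PreservesFiniteColimits (EtShriek.extZero j) :=
  PreservesColimitsOfSize.preservesFiniteColimits _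

instance : (EtShriek.extZero j).Additive :=
  Functor.additive_of_preserves_binary_products _

/-- `j_! G_m`. -/
abbrev jG : EtCoh.Ab X := (EtShriek.extZero j).obj (EtCoh.Gm U)

theorem map_powMap (n : ℕ) : (EtShriek.extZero j).map (EtCoh.powMap U n) = n • 𝟙 (jG j) := by
  change (EtShriek.extZero j).map (n • 𝟙 (EtCoh.Gm U)) = _
  rw [Functor.map_nsmul, CategoryTheory.Functor.map_id]

/-- The kernel of `n` on `j_! G_m` is `j_! μ_n`. -/
def muIso (n : ℕ) : (EtShriek.extZero j).obj (EtCoh.mu U n) ≅ MuTorsion215.mu (jG j) n :=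
  PreservesKernel.iso (EtShriek.extZero j) (EtCoh.powMap U n) ≪≫
    kernelIsoOfEq (map_powMap j n)

theorem epi_nsmul (n : ℕ) (h : Epi (EtCoh.powMap U n)) : Epi (n • 𝟙 (jG j)) := by
  rw [← map_powMap]
  infer_instance

/-- the object computing cohomology -/
abbrev Zc (X : Scheme.{u}) : EtCoh.Ab X :=
  (constantSheaf X.smallEtaleTopology AddCommGrpCat.{u + 1}).obj
    (AddCommGrpCat.of (ULift.{u + 1} ℤ))

theorem eq_zero_of_nsmul (e : ℕ)
    (h0 : Subsingleton (EtCoh.H X ((EtShriek.extZero j).obj (EtCoh.mu U e)) 0))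
    (u : Zc X ⟶ jG j) (hu : e • u = 0) : u = 0 := by
  have h1 : Subsingleton (Zc X ⟶ (EtShriek.extZero j).obj (EtCoh.mu U e)) := by
    refine ⟨fun a b => (Ext.mk₀_bijective _ _).1 ?_⟩
    exact Subsingleton.elim (α := EtCoh.H X ((EtShriek.extZero j).obj (EtCoh.mu U e)) 0) _ _
  have h2 : u = kernel.lift (e • 𝟙 (jG j)) u (by rw [MuTorsion215.nsmul_id_comp, hu]) ≫
      kernel.ι _ := (kernel.lift_ι _ _ _).symm
  have h3 : kernel.lift (e • 𝟙 (jG j)) u (by rw [MuTorsion215.nsmul_id_comp, hu]) ≫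
      (muIso j e).inv = 0 := Subsingleton.elim _ _
  have h4 : kernel.lift (e • 𝟙 (jG j)) u (by rw [MuTorsion215.nsmul_id_comp, hu]) = 0 :=
    (cancel_mono (muIso j e).inv).1 (h3.trans zero_comp.symm)
  rw [h2, h4, zero_comp]

theorem nsmul_H (n : ℕ) (q : ℕ) (m : EtCoh.H X ((EtShriek.extZero j).obj (EtCoh.mu U n)) q) :
    n • m = 0 := by
  have h := Groth.Agent.Sga4B.KummerH1.comp_nsmul_id n q m
  rw [← h]
  have h2 : n • 𝟙 ((EtShriek.extZero j).obj (EtCoh.mu U n)) = 0 := by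
    have h4 : n • 𝟙 (EtCoh.mu U n) = 0 := by
      have h3 := MuTorsion215.nsmul_ι (EtCoh.Gm U) n
      have : Mono (EtCoh.muι U n) := inferInstanceAs (Mono (kernel.ι (n • 𝟙 (EtCoh.Gm U))))
      rw [← cancel_mono (EtCoh.muι U n), zero_comp, Preadditive.nsmul_comp, Category.id_comp]
      exact h3
    rw [← CategoryTheory.Functor.map_id, ← Functor.map_nsmul, h4, Functor.map_zero]
  rw [h2, Ext.mk₀_zero, Ext.comp_zero]

/-- `H¹(X, j_! μ_d)` is the `d`-torsion of `H¹(X, j_! μ_n)`. -/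
theorem card_torsion (n d : ℕ) (h : d ∣ n) (hepi : ∀ e, e ∣ n → Epi (EtCoh.powMap U e))
    (h0 : ∀ e, e ∣ n → Subsingleton (EtCoh.H X ((EtShriek.extZero j).obj (EtCoh.mu U e)) 0)) :
    Nat.card {m : EtCoh.H X ((EtShriek.extZero j).obj (EtCoh.mu U n)) 1 // d • m = 0} =
      Nat.card (EtCoh.H X ((EtShriek.extZero j).obj (EtCoh.mu U d)) 1) := by
  obtain ⟨e, rfl⟩ := h
  have h1 := MuTorsion215.card_torsion (jG j) (Zc X) d e (d * e) rfl
    (epi_nsmul j d (hepi d (Dvd.intro _ rfl))) (epi_nsmul j e (hepi e (Dvd.intro_left _ rfl)))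
    (fun u hu => ⟨0, by rw [smul_zero, eq_zero_of_nsmul j e (h0 e (Dvd.intro_left _ rfl)) u hu]⟩)
    (fun u hu => ⟨0, by rw [smul_zero, eq_zero_of_nsmul j d (h0 d (Dvd.intro _ rfl)) u hu]⟩)
  let E : ∀ m : ℕ, EtCoh.H X ((EtShriek.extZero j).obj (EtCoh.mu U m)) 1 ≃+
      Ext (Zc X) (MuTorsion215.mu (jG j) m) 1 := fun m => Sga4B.HTools.HCongr (muIso j m) 1
  rw [Nat.card_congr (E d).toEquiv, ← h1]
  refine Nat.card_congr (Equiv.subtypeEquiv (E (d * e)).toEquiv fun m => ?_)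
  change d • m = 0 ↔ d • E (d * e) m = 0
  rw [← map_nsmul, map_eq_zero_iff _ (E (d * e)).injective]

end general

section curve

variable {k : Type u} [Field k] [IsAlgClosed k] {X : Scheme.{u}} [IsIntegral X]
  (c : X ⟶ Spec (CommRingCat.of k)) [LocallyOfFiniteType c]
  {U : Scheme.{u}} (j : U ⟶ X) [IsOpenImmersion j] [EtShriek.JCont j] [Nonempty U]

include c in
theorem nonempty_iso (n : ℕ) (hnk : (n : k) ≠ 0) :
    Nonempty ((EtShriek.extZero j).obj (EtCoh.mu U n) ≅
      (EtShriek.extZero j).obj ((EtShriek.restrAlong j).obj (EtCoh.const X (ZMod n)))) := by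
  have : IsIntegral U := isIntegral_of_isOpenImmersion j
  obtain ⟨e⟩ := CurvesA.MuConst.nonempty_iso_const_mu_of_isSepClosed k n hnk (j ≫ c)
  exact ⟨(EtShriek.extZero j).mapIso (e.symm ≪≫ (Sga4h.EtaleRes2.constRestr j (ZMod n)).symm)⟩

variable {Z : Scheme.{u}} (i : Z ⟶ X) [IsClosedImmersion i] [Finite Z] [Nonempty Z]
  (hc : IsCompl (Set.range i) (Set.range j))

include c hc in
theorem subsingleton_H0 (n : ℕ) (hnk : (n : k) ≠ 0) :
    Subsingleton (EtCoh.H X ((EtShriek.extZero j).obj (EtCoh.mu U n)) 0) := by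
  obtain ⟨e⟩ := nonempty_iso c j n hnk
  have h := Sga4B.CurveOpen.subsingleton_H0 c i j hc (ZMod n)
  have h1 : Subsingleton (EtCoh.H X ((EtShriek.extZero j).obj
    ((EtShriek.restrAlong j).obj (EtCoh.const X (ZMod n)))) 0) := h
  exact (Sga4B.HTools.HCongr e 0).toEquiv.subsingleton

include c hc in
theorem card_H1 (n : ℕ) (hnk : (n : k) ≠ 0) :
    n ^ Nat.card Z * Nat.card (EtCoh.H X (EtCoh.const X (ZMod n)) 1) =
      n * Nat.card (EtCoh.H X ((EtShriek.extZero j).obj (EtCoh.mu U n)) 1) := by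
  obtain ⟨e⟩ := nonempty_iso c j n hnk
  have h := Sga4B.CurveOpen.card_H1 c i j hc (ZMod n)
  rw [Nat.card_zmod] at h
  rw [Nat.card_congr (Sga4B.HTools.HCongr e 1).toEquiv]
  exact h

include c hc in
/-- `H¹(X, j_! μ_n) ≃ (ℤ/n)^(2g + s - 1)`. -/
theorem nonempty_equiv (g : ℕ) (hg : ∀ n : ℕ, (n : k) ≠ 0 →
      Nat.card (EtCoh.H X (EtCoh.const X (ZMod n)) 1) = n ^ (2 * g)) (n : ℕ) (hnk : (n : k) ≠ 0) :
    Nonempty (EtCoh.H X ((EtShriek.extZero j).obj (EtCoh.mu U n)) 1 ≃+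
      (Fin (2 * g + (Nat.card Z - 1)) → ZMod n)) := by
  have : IsIntegral U := isIntegral_of_isOpenImmersion j
  have hZ : 1 ≤ Nat.card Z := Nat.card_pos
  have hcard : ∀ n : ℕ, (n : k) ≠ 0 →
      Nat.card (EtCoh.H X ((EtShriek.extZero j).obj (EtCoh.mu U n)) 1) =
        n ^ (2 * g + (Nat.card Z - 1)) := by
    intro n hnk
    have hn0 : n ≠ 0 := by rintro rfl; simp at hnk
    have h1 := card_H1 c j i hc n hnk
    rw [hg n hnk, ← pow_add] at h1
    have h2 : Nat.card Z + 2 * g = (2 * g + (Nat.card Z - 1)) + 1 := by omega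
    rw [h2, pow_succ, mul_comm] at h1
    exact (Nat.eq_of_mul_eq_mul_left (Nat.pos_of_ne_zero hn0) h1).symm
  have hn0 : n ≠ 0 := by rintro rfl; simp at hnk
  have hdvd : ∀ m, m ∣ n → (m : k) ≠ 0 := by
    rintro m ⟨e, rfl⟩ h
    apply hnk
    rw [Nat.cast_mul, h, zero_mul]
  have hfin : Finite (EtCoh.H X ((EtShriek.extZero j).obj (EtCoh.mu U n)) 1) := by
    apply Nat.finite_of_card_ne_zero
    rw [hcard n hnk]
    exact pow_ne_zero _ hn0
  refine ZModFree.nonempty_equiv_of_card _ n hn0 _ (nsmul_H j n 1) fun d hd => ?_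
  rw [card_torsion j n d hd (fun e he => MuCard.epi_powMap U (j ≫ c) e (hdvd e he))
    (fun e he => subsingleton_H0 c j i hc e (hdvd e he)), hcard d (hdvd d hd)]

end curve

end K717.Shriek
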