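import Groth.Agent.LocSym.K717.Shriek
import Groth.Agent.LocSym.K717.PicTors
import Groth.Agent.Etcore.ShriekUnique
import Groth.Agent.Sga5.ShriekMV
import Groth.Agent.S0224

/-!
# `H¹(X, j_! μ_n) ≃ Pic_m(X)[n]` for a reduced modulus
-/

set_option autoImplicit false
set_option linter.unusedSectionVars false
set_option linter.style.haveILetI false
universe u

open CategoryTheory CategoryTheory.Limits AlgebraicGeometry Opposite TopologicalSpace

noncomputable section

namespace K717.ShriekMain

open K717.PicTors LocSym W4c1etcurveeff2 Groth.Agent Groth.Agent.Etcore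

variable {k : Type u} [Field k] [IsAlgClosed k] {X : Scheme.{u}} [IsIntegral X]
  (c : X ⟶ Spec (CommRingCat.of k)) [IsProper c] [Smooth c] (hdim : topologicalKrullDim X = 1)

include c hdim in
/-- A smooth curve has infinitely many rational points. -/
theorem infinite_pt : Infinite (Pt c) := by
  by_contra hfin
  rw [not_infinite_iff_finite] at hfin
  have h1 : Finite {x : X // x ≠ genericPoint X} := Finite.of_equiv _ (PtDiv.ptEquiv c hdim)
  have h2 : IsClosed ({x : X | x ≠ genericPoint X}) := by
    have h3 : {x : X | x ≠ genericPoint X} = ⋃ x : {x : X // x ≠ genericPoint X}, {x.1} := by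
      ext x
      simp
    rw [h3]
    exact isClosed_iUnion_of_finite fun x => S0227.isClosed_of_ne X hdim x.1 x.2
  have := LocallyOfFiniteType.jacobsonSpace c
  obtain ⟨z, hz1, hz2⟩ := nonempty_inter_closedPoints (X := X) (Z := {genericPoint X})
    (Set.singleton_nonempty _) (by
      have h4 : ({genericPoint X} : Set X) = {x : X | x ≠ genericPoint X}ᶜ := by
        ext x
        simp
      rw [h4]
      exact h2.isOpen_compl.isLocallyClosed)
  rw [Set.mem_singleton_iff] at hz1
  subst hz1
  exact PtDiv.not_isClosed_generic hdim hz2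

include hdim in
theorem const_equiv (n : ℕ) (hnk : (n : k) ≠ 0) :
    Nonempty (EtCoh.H X (EtCoh.const X (ZMod n)) 1 ≃+ (Fin (2 * gen c) → ZMod n)) := by
  letI : X.Over (Spec (CommRingCat.of k)) := ⟨c⟩
  have hn : 1 ≤ n := Nat.pos_of_ne_zero (by rintro rfl; simp at hnk)
  have hX : Curve.IsSmoothProperCurve k X (X ↘ Spec (CommRingCat.of k)) :=
    ⟨inferInstanceAs (IsProper c), inferInstanceAs (Smooth c), inferInstance, hdim⟩
  exact S0224.result k X hX _ rfl n hn hnk

include hdim in
theorem card_const (n : ℕ) (hnk : (n : k) ≠ 0) :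
    Nat.card (EtCoh.H X (EtCoh.const X (ZMod n)) 1) = n ^ (2 * gen c) := by
  have hn0 : n ≠ 0 := by rintro rfl; simp at hnk
  have hn1 : NeZero n := ⟨hn0⟩
  obtain ⟨e⟩ := const_equiv c hdim n hnk
  rw [Nat.card_congr e.toEquiv, Nat.card_fun, Nat.card_zmod, Nat.card_eq_fintype_card,
    Fintype.card_fin]

variable {U : Scheme.{u}} (j : U ⟶ X) [IsOpenImmersion j] [EtShriek.JCont j]

include hdim in
theorem main (m : Pt c →₀ ℕ) (hm : ∀ x : Pt c, m x ≤ 1)
    (hU : ∀ x : Pt c, x ∈ m.support ↔ x.pt ∉ Set.range j.base)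
    (n : ℕ) (hnk : (n : k) ≠ 0) :
    Nonempty (EtCoh.H X ((EtShriek.extZero j).obj (EtCoh.mu U n)) 1 ≃+
      (nsmulAddMonoidHom (α := PicMod c m) n).ker) := by
  obtain ⟨e1⟩ := nonempty_equiv c hdim hm n hnk
  -- `U` is nonempty
  have hne : Nonempty U := by
    by_contra hne
    rw [not_nonempty_iff] at hne
    have h1 : ∀ x : Pt c, x ∈ m.support := by
      intro x
      rw [hU]
      rintro ⟨y, -⟩
      exact hne.false y
    have h2 := infinite_pt c hdim
    have h3 : (Set.univ : Set (Pt c)).Finite :=
      m.support.finite_toSet.subset fun x _ => h1 x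
    exact Set.infinite_univ h3
  have hη : genericPoint X ∈ Set.range j.base := by
    obtain ⟨y⟩ := hne
    exact (genericPoint_specializes (j.base y)).mem_open j.isOpenEmbedding.isOpen_range ⟨y, rfl⟩
  -- the complement
  have hcompl : (Set.range j.base)ᶜ = Pt.pt '' (m.support : Set (Pt c)) := by
    ext z
    constructor
    · intro hz
      have h1 : z ≠ genericPoint X := by
        rintro rfl
        exact hz hη
      refine ⟨(PtDiv.ptEquiv c hdim).symm ⟨z, h1⟩, ?_, PtDiv.ptEquiv_symm_pt c hdim ⟨z, h1⟩⟩
      rw [Finset.mem_coe, hU, PtDiv.ptEquiv_symm_pt]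
      exact hz
    · rintro ⟨x, hx, rfl⟩
      exact (hU x).1 hx
  have hinj : Function.Injective (Pt.pt (c := c)) := by
    intro x y h
    exact (PtDiv.ptEquiv c hdim).injective (Subtype.ext h)
  have hcard : Nat.card ↥((Set.range j.base)ᶜ) = m.support.card := by
    rw [hcompl, Nat.card_image_of_injective hinj, Nat.card_eq_fintype_card]
    exact Fintype.card_coe m.support
  have hfin : ((Set.range j.base)ᶜ).Finite := by
    rw [hcompl]
    exact m.support.finite_toSet.image _
  by_cases hS : (Set.range j.base)ᶜ.Nonempty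
  · obtain ⟨Z, i, hi, hc⟩ := Sga5.ShriekMV.exists_compl j
    have hri : Set.range i = (Set.range j)ᶜ := hc.eq_compl
    have hZ1 : Nat.card Z = Nat.card ↥(Set.range j)ᶜ := by
      rw [← hri]
      exact Nat.card_congr (Equiv.ofInjective i i.isClosedEmbedding.injective)
    have hZf : Finite Z := by
      have : Finite (Set.range i) := by rw [hri]; exact hfin
      exact Finite.of_injective (Set.rangeFactorization i)
        (fun a b h => i.isClosedEmbedding.injective (congrArg Subtype.val h))
    have hZn : Nonempty Z := by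
      obtain ⟨x, hx⟩ := hS
      have hx' : x ∈ Set.range i := by rw [hri]; exact hx
      obtain ⟨z, rfl⟩ := hx'
      exact ⟨z⟩
    obtain ⟨e2⟩ := Shriek.nonempty_equiv c j i hc (gen c) (card_const c hdim) n hnk
    have h3 : Nat.card Z = m.support.card := hZ1.trans hcard
    rw [h3] at e2
    exact ⟨e2.trans e1.symm⟩
  · have h3 : m.support.card = 0 := by
      rw [← hcard]
      have : IsEmpty ↥((Set.range j.base)ᶜ) := Set.isEmpty_coe_sort.2 (Set.not_nonempty_iff_eq_empty.1 hS)
      exact Nat.card_of_isEmpty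
    rw [h3] at e1
    obtain ⟨e2⟩ := Shriek.nonempty_iso c j n hnk
    have h4 : IsIso ((EtShriek.extZeroAdj j).counit.app (EtCoh.const X (ZMod n))) := by
      apply ShriekUnique.isIso_counit_of_isZero_stalks
      intro Ω _ _ ξ hξ
      exact absurd ⟨ξ.base default, hξ ⟨default, rfl⟩⟩ hS
    obtain ⟨e3⟩ := const_equiv c hdim n hnk
    exact ⟨(Sga4B.HTools.HCongr (e2 ≪≫ asIso ((EtShriek.extZeroAdj j).counit.app
      (EtCoh.const X (ZMod n)))) 1).trans (e3.trans e1.symm)⟩

end K717.ShriekMain
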